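import Cfsg.Agent.Lib.Perm.Dickson.Torus
import Cfsg.Agent.Lib.Perm.Dickson.Embed

/-!
# Abelian subgroups of order `q + 1` of `PSL(2, q)`, `q` even, are cyclic
-/

set_option autoImplicit false
set_option linter.style.haveILetI false
set_option linter.unusedSectionVars false

namespace CfsgLib.Perm.TIInvol

open Matrix CfsgLib.Perm.Dickson

theorem isCyclic_of_card_q_add_one {F : Type} [Field F] [Finite F] {f : ℕ} (hf : 1 ≤ f)
    (hF : Nat.card F = 2 ^ f) (A : Subgroup (G2 F)) (hcomm : ∀ x ∈ A, ∀ y ∈ A, x * y = y * x)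
    (hcard : Nat.card A = 2 ^ f + 1) : IsCyclic A := by
  classical
  haveI := finite_G2 (F := F)
  haveI : Fact (Nat.Prime 2) := ⟨Nat.prime_two⟩
  haveI : Fintype F := Fintype.ofFinite F
  haveI : CharP F 2 := charP_of_card_eq_prime_pow (f := f) (by rw [← Nat.card_eq_fintype_card, hF])
  haveI := charP_Kc (F := F) 2
  have hq : 2 ∣ 2 ^ f := dvd_pow_self 2 (by omega)
  have hsq : ∀ y ∈ A, y * y = 1 → y = 1 := by
    intro y hy e
    have h1 := Subgroup.orderOf_dvd_natCard A hy
    rw [hcard] at h1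
    rcases (Nat.dvd_prime Nat.prime_two).1 (orderOf_dvd_of_pow_eq_one (x := y) (n := 2) (by rw [sq, e]))
      with h2 | h2
    · exact orderOf_eq_one_iff.1 h2
    · rw [h2] at h1; omega
  obtain ⟨g, hg, hg1⟩ := A.bot_or_exists_ne_one.resolve_left (fun e => by
    rw [e, Subgroup.card_bot] at hcard; have := Nat.two_pow_pos f; omega)
  have hord := Subgroup.orderOf_dvd_natCard A hg
  rw [hcard] at hord
  have hfree : ∀ x : P2 F, g • x ≠ x := by
    intro x hx
    by_cases h2 : ∀ y : P2 F, g • y = y → y = x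
    · exact hg1 (hsq g hg (by rw [← sq, pow_char_of_single 2 hx h2]))
    push Not at h2
    obtain ⟨y, hy, hne⟩ := h2
    have h1 := orderOf_dvd_of_two_fix (F := F) hne.symm hx hy
    rw [hF] at h1
    have h3 : orderOf g ∣ 2 := by
      have := Nat.dvd_sub hord h1
      rwa [show 2 ^ f + 1 - (2 ^ f - 1) = 2 by have := Nat.two_pow_pos f; omega] at this
    exact hg1 (hsq g hg (by rw [← sq]; exact orderOf_dvd_iff_pow_eq_one.1 h3))
  obtain ⟨a, ha⟩ := exists_fixed_of_isAlgClosed (K := Kc F) (mapG (iF F) g)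
  have hnr : ∀ x : P2 (Kc F), mapG (iF F) g • x = x → ¬ IsRat x := by
    rintro x hx ⟨x', rfl⟩
    exact hfree x' ((fix_map_iff g x').1 hx)
  obtain ⟨b, hb, hba⟩ : ∃ b : P2 (Kc F), mapG (iF F) g • b = b ∧ b ≠ a := by
    by_contra hne
    push Not at hne
    exact hnr a ha (isRat_of_single 2 ha hne)
  have hg' : mapG (iF F) g ≠ 1 := fun e => hg1 ((map_eq_one_iff _ (mapG_injective _)).1 e)
  have honly : ∀ x : P2 (Kc F), mapG (iF F) g • x = x → x = a ∨ x = b := by
    intro x hx
    by_contra hc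
    push Not at hc
    exact hg' (eq_one_of_three hba.symm (Ne.symm hc.1) (Ne.symm hc.2) ha hb hx)
  have hle : A ≤ pairFix a b := by
    intro y hy
    have hc : mapG (iF F) g * mapG (iF F) y = mapG (iF F) y * mapG (iF F) g := by
      rw [← map_mul, ← map_mul, hcomm g hg y hy]
    have h1 := honly (mapG (iF F) y • a) (by rw [smul_smul, hc, ← smul_smul, ha])
    have h2 := honly (mapG (iF F) y • b) (by rw [smul_smul, hc, ← smul_smul, hb])
    have hne : mapG (iF F) y • a ≠ mapG (iF F) y • b := fun e =>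
      hba.symm (MulAction.injective _ e)
    have hset : y ∈ pairSet a b := by
      rcases h1 with h1 | h1 <;> rcases h2 with h2 | h2
      · exact absurd (h1.trans h2.symm) hne
      · exact mem_pairSet.2 (Or.inl ⟨h1, h2⟩)
      · exact mem_pairSet.2 (Or.inr ⟨h1, h2⟩)
      · exact absurd (h1.trans h2.symm) hne
    by_contra hn
    exact hn (hsq y hy (sq_of_swap hba.symm hset hn) ▸ one_mem _)
  haveI := isCyclic_pairFix (F := F) hba.symm
  exact isCyclic_of_injective (Subgroup.inclusion hle) (Subgroup.inclusion_injective hle)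

/-- The same inside a group isomorphic to `PSL(2, q)`. -/
theorem isCyclic_of_psl {G : Type*} [Group G] {F : Type} [Field F] [Finite F] {f : ℕ} (hf : 1 ≤ f)
    (hF : Nat.card F = 2 ^ f) (e : G ≃* Matrix.ProjectiveSpecialLinearGroup (Fin 2) F) (A : Subgroup G)
    (hcomm : ∀ x ∈ A, ∀ y ∈ A, x * y = y * x) (hcard : Nat.card A = 2 ^ f + 1) : IsCyclic A := by
  let φ : G →* G2 F := Matrix.ProjectiveSpecialLinearGroup.toPGL.comp e.toMonoidHom
  have hφ : Function.Injective φ := Matrix.ProjectiveSpecialLinearGroup.toPGL_injective.comp e.injective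
  have h := isCyclic_of_card_q_add_one hf hF (A.map φ) (by
    rintro _ ⟨x, hx, rfl⟩ _ ⟨y, hy, rfl⟩
    rw [← map_mul, ← map_mul, hcomm x hx y hy])
    (by rw [← Nat.card_congr (A.equivMapOfInjective φ hφ).toEquiv, hcard])
  exact (A.equivMapOfInjective φ hφ).isCyclic.2 h

end CfsgLib.Perm.TIInvol
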