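import Cfsg.Agent.Lib.Perm.TIInvol.Setup
import Cfsg.Agent.Lib.Perm.TIInvol.Cyclic
import Cfsg.Agent.Lib.Char.FewSylow.Sharp
import Cfsg.Agent.Lib.CFun.NilpotentProduct
import Cfsg.Agent.Lib.Char.TransLinear.Structure
import Cfsg.Agent.Lib.Coprime.FpfAction
import Cfsg.Agent.Lib.Perm.Dickson.Recog
import Mathlib.GroupTheory.Sylow

/-!
# The case `|C(z)| > 2 |C_{N(M)}(z)|`: `PSL(2, 2 ^ e)` or an elementary abelian normal complement
-/

set_option autoImplicit false
set_option linter.style.haveILetI false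
set_option linter.unusedSectionVars false
set_option linter.unusedSimpArgs false

namespace CfsgLib.Perm.TIInvol

open Subgroup

universe u

variable {G : Type u} [Group G] [Finite G] {M : Subgroup G} {z : G}

theorem exp_two_pow {d j : ℕ} (hd : 1 ≤ d) (hj0 : j ≠ 0) (hj : j ≤ 2 * d + 1)
    (h : (2 : ℤ) ^ d + 1 ∣ (2 : ℤ) ^ j - 1) : j = 2 * d := by
  obtain ⟨m, hm⟩ : ∃ m : ℤ, m = (2 : ℤ) ^ d + 1 := ⟨_, rfl⟩
  rw [← hm] at h
  have hd2 : (2 : ℤ) ≤ 2 ^ d := by
    calc (2 : ℤ) = 2 ^ 1 := (pow_one 2).symm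
      _ ≤ 2 ^ d := pow_le_pow_right₀ (by norm_num) hd
  rcases le_or_gt j d with hjd | hjd
  · exfalso
    have h1 : (2 : ℤ) ^ j ≤ 2 ^ d := pow_le_pow_right₀ (by norm_num) hjd
    have h2 : (2 : ℤ) ≤ 2 ^ j := by
      calc (2 : ℤ) = 2 ^ 1 := (pow_one 2).symm
        _ ≤ 2 ^ j := pow_le_pow_right₀ (by norm_num) (by omega)
    have := Int.le_of_dvd (by omega) h
    omega
  obtain ⟨i, rfl⟩ : ∃ i, j = d + i := ⟨j - d, by omega⟩
  have h3 : m ∣ (2 : ℤ) ^ i + 1 := by
    have e : (2 : ℤ) ^ i + 1 = (2 : ℤ) ^ i * m - ((2 : ℤ) ^ (d + i) - 1) := by rw [hm, pow_add]; ring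
    rw [e]
    exact dvd_sub (dvd_mul_left m _) h
  rcases lt_trichotomy i d with hid | hid | hid
  · exfalso
    have h1 : (2 : ℤ) ^ i < 2 ^ d := pow_lt_pow_right₀ (by norm_num) hid
    have h2 : (0 : ℤ) < 2 ^ i := by positivity
    have := Int.le_of_dvd (by omega) h3
    omega
  · omega
  · exfalso
    obtain rfl : i = d + 1 := by omega
    have e : (2 : ℤ) * m - ((2 : ℤ) ^ (d + 1) + 1) = 1 := by rw [hm, pow_succ]; ring
    have h4 : m ∣ (1 : ℤ) := e ▸ dvd_sub (dvd_mul_left m 2) h3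
    have := Int.le_of_dvd one_pos h4
    omega

namespace Hyp

variable (h : Hyp M z)
include h

/-- Beyond index two the centraliser of `z` is elementary abelian. -/
theorem centralizer_elementary (hI : Many M) {k : ℕ} (hk : 2 ≤ k)
    (hW : Nat.card (centralizer ({z} : Set G)) = Nat.card (C0 M z) * (k + 1)) :
    Nat.card (C0 M z) = 2 ∧ ∀ w ∈ centralizer ({z} : Set G), w * w = 1 := by
  classical
  set W := centralizer ({z} : Set G) with hWdef
  obtain ⟨u, huW, huC⟩ : ∃ u ∈ W, u ∉ C0 M z := by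
    by_contra hne
    push Not at hne
    have := Subgroup.card_le_of_le (show W ≤ C0 M z from hne)
    have h1 : 0 < Nat.card (C0 M z) := Nat.card_pos
    rw [hW] at this
    nlinarith
  have huN : u ∉ normalizer (M : Set G) := fun e => huC ⟨e, huW⟩
  have hzu := (mem_centralizer_singleton_iff.1 huW).symm
  have hu := h.invol_of_mem_centralizer hI hzu huN
  obtain ⟨v, hvW, hvC, huvC⟩ : ∃ v ∈ W, v ∉ C0 M z ∧ u * v ∉ C0 M z := by
    by_contra hne
    push Not at hne
    let f : W → C0 M z ⊕ C0 M z := fun w =>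
      if hw : (w : G) ∈ C0 M z then Sum.inl ⟨w, hw⟩ else Sum.inr ⟨u * w, hne w w.2 hw⟩
    have hf : Function.Injective f := by
      intro w w' e
      simp only [f] at e
      split_ifs at e
      · exact Subtype.ext (congrArg (fun c : C0 M z => (c : G)) (Sum.inl.inj e) :)
      · exact Subtype.ext (mul_left_cancel (congrArg (fun c : C0 M z => (c : G)) (Sum.inr.inj e) :))
    have := Nat.card_le_card_of_injective f hf
    rw [Nat.card_sum, hW] at this
    have h1 : 0 < Nat.card (C0 M z) := Nat.card_pos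
    nlinarith
  have hv : v * v = 1 := h.invol_of_mem_centralizer hI (mem_centralizer_singleton_iff.1 hvW).symm
    fun e => hvC ⟨e, hvW⟩
  have huvW : u * v ∈ W := mul_mem huW hvW
  have huvN : u * v ∉ normalizer (M : Set G) := fun e => huvC ⟨e, huvW⟩
  have hzuv := (mem_centralizer_singleton_iff.1 huvW).symm
  have huv := h.invol_of_mem_centralizer hI hzuv huvN
  have hsq : ∀ c ∈ C0 M z, c * c = 1 := by
    intro c hc
    have e1 := h.c0_inverted hI huv huvN hzuv hc
    have e2 : u * v * c * (u * v) = c := by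
      have hvu : u * v = v * u := by
        calc u * v = (u * v)⁻¹ := (inv_eq_self huv).symm
          _ = v * u := by rw [mul_inv_rev, inv_eq_self hu, inv_eq_self hv]
      have hc' : (u * c * u)⁻¹ = c := by rw [h.c0_inverted hI hu huN hzu hc, inv_inv]
      calc u * v * c * (u * v) = u * v * c * (v * u) := by rw [hvu]
        _ = u * (v * c * v) * u := by group
        _ = u * c⁻¹ * u := by
            rw [h.c0_inverted hI hv (fun e => hvC ⟨e, hvW⟩) (mem_centralizer_singleton_iff.1 hvW).symm hc]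
        _ = (u * c * u)⁻¹ := by rw [mul_inv_rev, mul_inv_rev, inv_eq_self hu, mul_assoc]
        _ = c := hc'
    rw [e2] at e1
    nth_rw 1 [e1]
    exact inv_mul_cancel c
  refine ⟨le_antisymm ?_ ?_, fun w hw => ?_⟩
  · refine (Nat.card_le_card_of_injective (fun c : C0 M z => decide ((c : G) = 1)) ?_).trans
      (by simp)
    intro c d e
    simp only [decide_eq_decide] at e
    rcases h.c0_invol c.2 (hsq _ c.2) with hc | hc <;> rcases h.c0_invol d.2 (hsq _ d.2) with hd | hd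
    · exact Subtype.ext (hc.trans hd.symm)
    · exact absurd (hd ▸ e.1 hc) h.z1
    · exact absurd (hc ▸ e.2 hd) h.z1
    · exact Subtype.ext (hc.trans hd.symm)
  · have hd := Subgroup.orderOf_dvd_natCard _ h.z_mem_C0
    rw [orderOf_two_iff.2 ⟨h.hz, h.z1⟩] at hd
    exact Nat.le_of_dvd Nat.card_pos hd
  · by_cases hwN : w ∈ normalizer (M : Set G)
    · exact hsq w ⟨hwN, hw⟩
    · exact h.invol_of_mem_centralizer hI (mem_centralizer_singleton_iff.1 hw).symm hwN

/-- `G` is `PSL(2, 2 ^ (d + 1))`. -/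
theorem case_psl {d k : ℕ} (hd : 1 ≤ d) (hkd : k + 1 = 2 ^ d)
    (hc : Nat.card (C0 M z) = 2) (hexp : ∀ w ∈ centralizer ({z} : Set G), w * w = 1)
    (hW : Nat.card (centralizer ({z} : Set G)) = Nat.card (C0 M z) * (k + 1))
    (hG : Nat.card G = Nat.card M * Nat.card (C0 M z) * (1 + Nat.card M * k))
    (hI : Nat.card {g : G // orderOf g = 2} = Nat.card M * (Nat.card (C0 M z) * k + 1))
    (hm : Nat.card M = 2 * k + 3) :
    ∃ (F : Type) (_ : Field F) (_ : Fintype F) (e : ℕ), 1 < e ∧ Fintype.card F = 2 ^ e ∧ IsCyclic ↥M ∧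
        Nat.card M = 2 ^ e + 1 ∧ Nonempty (G ≃* Matrix.ProjectiveSpecialLinearGroup (Fin 2) F) := by
  have hidx := (centralizer ({z} : Set G)).card_mul_index
  rw [hW, hG, hc, hm] at hidx
  rw [hc, hm] at hI hG
  rw [hc] at hW
  have hie : (centralizer ({z} : Set G)).index = (2 * k + 3) * (2 * k + 1) := by
    refine Nat.eq_of_mul_eq_mul_left (show 0 < 2 * (k + 1) by omega) ?_
    rw [hidx]; ring
  have hq : 2 ^ (d + 1) = 2 * (k + 1) := by rw [pow_succ, hkd]; ring
  obtain ⟨F, hF, hFF, hFc, ⟨e⟩⟩ := CfsgLib.Char.FewSylow.psl_of_involution_centralizer (f := d + 1)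
    (w := z) (by omega)
    (by rw [hG, hq, show 2 * (k + 1) - 1 = 2 * k + 1 by omega]; ring)
    (orderOf_two_iff.2 ⟨h.hz, h.z1⟩)
    ((h.index_centralizer_le).2 (by rw [hI, hie]))
    (by rw [hW, hq]) hexp
  refine ⟨F, hF, hFF, d + 1, by omega, hFc, ?_, by rw [hm, hq]; omega, ⟨e⟩⟩
  exact isCyclic_of_psl (f := d + 1) (by omega) (by rw [Nat.card_eq_fintype_card, hFc]) e M
    (fun x hx y hy => h.comm hx hy) (by rw [hm, hq]; omega)

/-- `G` has a normal elementary abelian complement to `N(M)`. -/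
theorem case_frobenius {d k : ℕ} (hnn : ¬ M.Normal) (hd : 1 ≤ d) (hkd : k + 1 = 2 ^ d)
    (hc : Nat.card (C0 M z) = 2)
    (hG : Nat.card G = Nat.card M * Nat.card (C0 M z) * (1 + Nat.card M * k))
    (hm : Nat.card M = k + 2) :
    ∃ E : Subgroup G, E.Normal ∧ Cfsg.IsElementaryAbelian 2 E ∧ Nat.card E = 2 ^ (2 * d) ∧
        E ⊓ normalizer (M : Set G) = ⊥ ∧ E ⊔ normalizer (M : Set G) = ⊤ ∧
        Nonempty (↥(normalizer (M : Set G)) ≃* DihedralGroup (2 ^ d + 1)) := by
  classical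
  have hmd : Nat.card M = 2 ^ d + 1 := by omega
  have hG' : Nat.card G = 2 ^ (2 * d + 1) * (2 ^ d + 1) := by
    rw [hG, hc, hmd, pow_succ, pow_mul', ← hkd]; ring
  have hcop : ∀ j, (2 ^ j).Coprime (2 ^ d + 1) := fun j => Nat.Coprime.pow_left j
    ((Nat.prime_two.coprime_iff_not_dvd).2 fun hdv => by
      have : 2 ∣ 2 ^ d := dvd_pow_self 2 (by omega)
      omega)
  haveI : Fact (Nat.Prime 2) := ⟨Nat.prime_two⟩
  obtain ⟨S, hS⟩ := Sylow.exists_subgroup_card_pow_prime 2
    (show 2 ^ (2 * d + 1) ∣ Nat.card G from Dvd.intro _ hG'.symm)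
  have hcompl := Subgroup.isComplement'_of_coprime (H := S) (K := M)
    (by rw [hS, hmd, hG']) (by rw [hS, hmd]; exact hcop _)
  haveI hsol : Group.IsSolvable G := by
    refine CfsgLib.NilpotentProduct.isSolvable_of_product (A := S) (B := M)
      (IsPGroup.of_card hS).isNilpotent ?_ fun g => ?_
    · letI : CommGroup M :=
        { (inferInstance : Group M) with mul_comm := fun x y => Subtype.ext (h.comm x.2 y.2) }
      infer_instance
    · obtain ⟨⟨a, b⟩, e, -⟩ := hcompl.existsUnique g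
      exact ⟨a.1, a.2, b.1, b.2, e.symm⟩
  obtain ⟨x1, hx1, hx11⟩ := M.bot_or_exists_ne_one.resolve_left h.ne
  obtain ⟨p, L, hp, hLn, -, hL1, hLc, hLp⟩ :=
    CfsgLib.Char.exists_normal_elementary_sub (G := G) (D := ⊤) (by
      intro e
      exact hx11 (by simpa [e] using Subgroup.mem_top x1))
  haveI := hLn
  have hp2 : p = 2 := by
    by_contra hne
    have hpo : Odd p := hp.odd_of_ne_two hne
    have hle : L ⊔ M ≤ M := by
      have hodd : ¬ 2 ∣ Nat.card ↥(L ⊔ M) := fun hdv => by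
        obtain ⟨⟨g, hg⟩, hgo⟩ := exists_prime_orderOf_dvd_card' (G := ↥(L ⊔ M)) 2 hdv
        rw [Subgroup.orderOf_mk] at hgo
        have hg' : g ∈ (↑(L ⊔ M) : Set G) := hg
        rw [Subgroup.normal_mul] at hg'
        obtain ⟨l, hl, x, hx, rfl⟩ := hg'
        have hq : ((l * x : G) : G ⧸ L) = (x : G ⧸ L) := by
          rw [QuotientGroup.mk_mul, (QuotientGroup.eq_one_iff l).2 hl, one_mul]
        have e : ((l * x : G) : G ⧸ L) ^ Nat.card M = 1 := by
          rw [hq, ← QuotientGroup.mk_pow,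
            orderOf_dvd_iff_pow_eq_one.1 (Subgroup.orderOf_dvd_natCard M hx), QuotientGroup.mk_one]
        rw [← QuotientGroup.mk_pow, QuotientGroup.eq_one_iff] at e
        have e2 := orderOf_dvd_iff_pow_eq_one.2 (show (l * x) ^ (Nat.card M * p) = 1 by
          rw [pow_mul]; exact hLp _ e)
        rw [hgo] at e2
        exact (h.odd_card.mul hpo).not_two_dvd_nat e2
      have hdvd : Nat.card ↥(L ⊔ M) ∣ Nat.card M := by
        have := Subgroup.card_subgroup_dvd_card (L ⊔ M)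
        rw [hG', ← hmd] at this
        exact ((Nat.prime_two.coprime_iff_not_dvd.2 hodd).pow_left _).symm.dvd_of_dvd_mul_left this
      exact (Subgroup.eq_of_le_of_card_ge le_sup_right (Nat.le_of_dvd Nat.card_pos hdvd)).ge
    have hLM : L ≤ M := le_sup_left.trans hle
    obtain ⟨l, hl, hl1⟩ := L.bot_or_exists_ne_one.resolve_left hL1
    refine hnn (normalizer_eq_top_iff.1 (eq_top_iff.2 fun g _ => ?_))
    exact h.ti g l (hLM hl) hl1 (hLM (hLn.conj_mem l hl g))
  subst hp2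
  have hsq : ∀ a ∈ L, a * a = 1 := fun a ha => by rw [← sq]; exact hLp a ha
  have hfpf : Coprime.IsFpfOn M L := by
    intro x hx hx1
    refine (eq_bot_iff_forall _).2 fun l hl => ?_
    exact h.odd x hx hx1 l (hsq l hl.1) (mem_centralizer_singleton_iff.1 hl.2)
  have hMn : M ≤ normalizer (L : Set G) := by rw [normalizer_eq_top_iff.2 hLn]; exact le_top
  obtain ⟨j, hj⟩ := IsPGroup.iff_card.1 (show IsPGroup 2 L from fun a => ⟨1, Subtype.ext (by
    rw [pow_one, SubmonoidClass.coe_pow, Subgroup.coe_one]; exact hLp _ a.2)⟩)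
  have hj0 : j ≠ 0 := fun e => hL1 (card_eq_one.1 (by rw [hj, e, pow_zero]))
  have hjle : j ≤ 2 * d + 1 := by
    have h1 := Subgroup.card_subgroup_dvd_card L
    rw [hj, hG'] at h1
    exact Nat.pow_dvd_pow_iff_le_right (le_refl 2) |>.1 ((hcop j).dvd_of_dvd_mul_right h1)
  have hj2 : j = 2 * d := by
    refine exp_two_pow hd hj0 hjle ?_
    have h1 := hfpf.card_mod hMn
    rw [hj, hmd] at h1
    have h2 := (Nat.modEq_iff_dvd.1 (Nat.ModEq.symm h1))
    push_cast at h2
    exact h2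
  subst hj2
  haveI : IsMulCommutative M := ⟨⟨fun x y => Subtype.ext (h.comm x.2 y.2)⟩⟩
  have hMcyc : IsCyclic M := hfpf.isCyclic hMn hL1
  have hdisj : L ⊓ normalizer (M : Set G) = ⊥ := by
    refine (eq_bot_iff_forall _).2 fun l hl => by_contra fun hl1 => ?_
    obtain ⟨x, hx, e⟩ := h.invol_form hl.2 (hsq l hl.1) hl1
    obtain ⟨y, hy, hy2⟩ := h.exists_sqrt hx
    have hzL : z ∈ L := by
      have := hLn.conj_mem l hl.1 y⁻¹
      have e1 : y⁻¹ * l * y⁻¹⁻¹ = z := by
        rw [e, ← hy2, inv_inv]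
        calc y⁻¹ * (y * y * z) * y = y * (z * y) := by group
          _ = z := by rw [h.z_conj_mul hy, mul_inv_cancel_left]
      rwa [e1] at this
    have h1 : x1 * z * x1⁻¹ * z ∈ L := mul_mem (hLn.conj_mem z hzL x1) hzL
    have h2 : x1 * z * x1⁻¹ * z = x1 * x1 := by
      rw [show x1 * z * x1⁻¹ * z = x1 * (z * x1⁻¹ * z) by group, h.z_inverts (inv_mem hx1), inv_inv]
    have h3 := hsq _ (h2 ▸ h1)
    exact hx11 (h.not_invol_mem hx1 (h.not_invol_mem (mul_mem hx1 hx1) h3))
  refine ⟨L, hLn, ⟨⟨⟨fun a b => Subtype.ext (hLc a a.2 b b.2)⟩⟩, hLp⟩, hj, hdisj, ?_, ?_⟩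
  · refine (Subgroup.isComplement'_of_card_mul_and_disjoint ?_ (disjoint_iff.2 hdisj)).sup_eq_top
    rw [h.card_N, hj, hc, hmd, hG', pow_succ]; ring
  · set C := M.subgroupOf (normalizer (M : Set G))
    have hCc : Nat.card C = Nat.card M :=
      Nat.card_congr (Subgroup.subgroupOfEquivOfLe Subgroup.le_normalizer).toEquiv
    rw [← hmd, ← hCc]
    refine CfsgLib.Perm.Dickson.mulEquiv_dihedral
      ((Subgroup.subgroupOfEquivOfLe (Subgroup.le_normalizer (H := M))).isCyclic.2 hMcyc)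
      (by rw [hCc, h.card_N, hc, mul_comm]) ?_
    rintro ⟨g, hg⟩ hgC
    obtain ⟨x, hx, c, hc', rfl⟩ := h.decomp hg
    refine Subtype.ext ?_
    have hc1 : c ≠ 1 := fun e => hgC (by show x * c ∈ M; rw [e, mul_one]; exact hx)
    have hcz : c = z := by
      have h2 : c ^ 2 = 1 := by
        rw [← hc]; exact orderOf_dvd_iff_pow_eq_one.1 (Subgroup.orderOf_dvd_natCard _ hc')
      exact (h.c0_invol hc' (by rw [← sq, h2])).resolve_left hc1
    subst hcz
    exact (h.mz_invol hx).1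

end Hyp

end CfsgLib.Perm.TIInvol
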