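import Cfsg.Agent.Lib.Perm.TIInvol.Setup
import Cfsg.Agent.Lib.Perm.AbelianKernel.Recognise
import Cfsg.Agent.Lib.Perm.AbelianKernel.Three
import Cfsg.Agent.Lib.Perm.Zassenhaus.Even
import Mathlib.GroupTheory.PGroup
import Mathlib.Algebra.CharP.CharAndCard

/-!
# The case `|C(z)| = 2 |C_{N(M)}(z)|`: the action on the cosets of `N(M)` gives `PGL(2)` or `PSL(2)`
-/

set_option autoImplicit false
set_option linter.style.haveILetI false
set_option linter.unusedSectionVars false
set_option linter.unusedSimpArgs false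

namespace CfsgLib.Perm.TIInvol

open Subgroup MulAction CfsgLib.Perm.AbKernel

universe u

variable {G : Type u} [Group G] [Finite G] {M : Subgroup G} {z : G}

namespace Hyp

variable (h : Hyp M z)
include h

theorem c0_comm {u : G} (hI : Many M) (hu : u * u = 1) (huN : u ∉ normalizer (M : Set G))
    (hzu : z * u = u * z) {c d : G} (hc : c ∈ C0 M z) (hd : d ∈ C0 M z) : c * d = d * c := by
  have e := h.c0_inverted hI hu huN hzu (mul_mem hc hd)
  have e' : u * (c * d) * u = c⁻¹ * d⁻¹ := by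
    calc u * (c * d) * u = u * c * (u * u) * d * u := by rw [hu]; group
      _ = (u * c * u) * (u * d * u) := by group
      _ = c⁻¹ * d⁻¹ := by rw [h.c0_inverted hI hu huN hzu hc, h.c0_inverted hI hu huN hzu hd]
  rw [e, ← mul_inv_rev, inv_inj] at e'
  exact e'

theorem exists_outer (hk : Nat.card (C0 M z) < Nat.card (centralizer ({z} : Set G))) (hI : Many M) :
    ∃ u : G, u * u = 1 ∧ u ∉ normalizer (M : Set G) ∧ z * u = u * z := by
  obtain ⟨u, huW, huN⟩ : ∃ u ∈ centralizer ({z} : Set G), u ∉ normalizer (M : Set G) := by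
    by_contra hne
    push Not at hne
    have := Subgroup.card_le_of_le (show centralizer ({z} : Set G) ≤ C0 M z from
      fun w hw => ⟨hne w hw, hw⟩)
    omega
  have hzu := (mem_centralizer_singleton_iff.1 huW).symm
  exact ⟨u, h.invol_of_mem_centralizer hI hzu huN, huN, hzu⟩

/-- The two-transitive action on the cosets of the normaliser. -/
theorem exists_data (hI : Many M)
    (hW : Nat.card (centralizer ({z} : Set G)) = Nat.card (C0 M z) * 2)
    (hG : Nat.card G = Nat.card M * Nat.card (C0 M z) * (1 + Nat.card M)) :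
    ∃ (b : G ⧸ normalizer (M : Set G)) (D : Data G ((1 : G) : G ⧸ normalizer (M : Set G)) b),
      D.F = M ∧ MulAction.stabilizer G ((1 : G) : G ⧸ normalizer (M : Set G)) ⊓
        MulAction.stabilizer G b = C0 M z ∧
      Nat.card (G ⧸ normalizer (M : Set G)) = Nat.card M + 1 ∧
      (∀ c d : G, c ∈ C0 M z → d ∈ C0 M z → c * d = d * c) ∧
      ∀ w : G, z * w = w * z → w • ((1 : G) : G ⧸ normalizer (M : Set G)) =
        ((1 : G) : G ⧸ normalizer (M : Set G)) ∨ w • ((1 : G) : G ⧸ normalizer (M : Set G)) = b := by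
  classical
  have hc0 : 0 < Nat.card (C0 M z) := Nat.card_pos
  obtain ⟨u, hu, huN, hzu⟩ := h.exists_outer (by omega) hI
  set N := normalizer (M : Set G) with hN
  obtain ⟨a, ha⟩ : ∃ a : G ⧸ N, a = ((1 : G) : G ⧸ N) := ⟨_, rfl⟩
  obtain ⟨b, hb⟩ : ∃ b : G ⧸ N, b = ((u : G) : G ⧸ N) := ⟨_, rfl⟩
  rw [← ha]
  have hsa : MulAction.stabilizer G a = N := by rw [ha]; exact MulAction.stabilizer_quotient N
  have hmem : ∀ g : G, g • a = a ↔ g ∈ N := fun g => by rw [← MulAction.mem_stabilizer_iff, hsa]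
  have hua : u • a = b := by rw [ha, hb, MulAction.Quotient.smul_coe, smul_eq_mul, mul_one]
  have hub : u • b = a := by rw [← hua, smul_smul, hu, one_smul]
  have hab : a ≠ b := fun e => huN ((hmem u).1 (hua.trans e.symm))
  have hmemb : ∀ g : G, g • b = b ↔ u * g * u ∈ N := fun g => by
    rw [← hmem, mul_smul, mul_smul, hua]
    exact ⟨fun e => by rw [e, hub], fun e => MulAction.injective u (e.trans hub.symm)⟩
  have hpair : MulAction.stabilizer G a ⊓ MulAction.stabilizer G b = C0 M z := by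
    ext g
    simp only [Subgroup.mem_inf, MulAction.mem_stabilizer_iff, hmem, hmemb]
    constructor
    · rintro ⟨h1, h2⟩
      exact (h.inter_facts hI hu huN hzu h1 h2).1
    · intro hg
      exact ⟨hg.1, (h.c0_inverted hI hu huN hzu hg) ▸ inv_mem hg.1⟩
  have hfree : ∀ x ∈ M, ∀ y : G ⧸ N, y ≠ a → x • y = y → x = 1 := by
    intro x hx y hy e
    obtain ⟨g, rfl⟩ := QuotientGroup.mk_surjective y
    have hgN : g ∉ N := fun hg => hy (by
      rw [ha, QuotientGroup.eq]
      simpa using inv_mem hg)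
    obtain ⟨w, hw, hv⟩ := h.exists_invol hI hgN
    obtain ⟨v, hvd⟩ : ∃ v, v = w * g := ⟨_, rfl⟩
    rw [← hvd] at hv
    rw [MulAction.Quotient.smul_coe, smul_eq_mul, QuotientGroup.eq] at e
    have e' : g⁻¹ * x * g ∈ N := by
      have := inv_mem e
      simpa [mul_assoc] using this
    have hvN : v ∉ N := fun e'' =>
      hgN ((Subgroup.mul_mem_cancel_left _ (Subgroup.le_normalizer hw)).1 (hvd ▸ e''))
    have hx' : v * (w * x * w⁻¹) * v ∈ N := by
      have : v * (w * x * w⁻¹) * v = g⁻¹ * x * g := by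
        calc v * (w * x * w⁻¹) * v = v⁻¹ * (w * x * w⁻¹) * v := by rw [inv_eq_self hv]
          _ = _ := by rw [hvd]; group
      rw [this]; exact e'
    have := h.move_eq_one hI hv hvN (mul_mem (mul_mem hw hx) (inv_mem hw)) hx'
    rwa [conj_eq_one_iff] at this
  have hMa : ∀ x ∈ M, x • a = a := fun x hx => (hmem x).2 (Subgroup.le_normalizer hx)
  have hMne : ∀ x ∈ M, ∀ y, y ≠ a → x • y ≠ a := fun x hx y hy e =>
    hy (MulAction.injective x (e.trans (hMa x hx).symm))
  haveI : Fintype (G ⧸ N) := Fintype.ofFinite _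
  have hcard : Nat.card (G ⧸ N) = Nat.card M + 1 := by
    have e := N.card_mul_index
    rw [hG, show Nat.card N = Nat.card M * Nat.card (C0 M z) from h.card_N] at e
    rw [← Subgroup.index_eq_card, add_comm (Nat.card M)]
    exact Nat.eq_of_mul_eq_mul_left (Nat.mul_pos Nat.card_pos Nat.card_pos) e
  have hreg : ∀ y w : G ⧸ N, y ≠ a → w ≠ a → ∃! x : M, (x : G) • y = w := by
    intro y w hy hw
    have hinj : Function.Injective fun x : M => (⟨(x : G) • y, hMne x x.2 y hy⟩ : {q // q ≠ a}) := by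
      intro x x' e
      have e' : (x : G) • y = (x' : G) • y := congrArg Subtype.val e
      have := hfree _ (mul_mem (inv_mem x'.2) x.2) y hy (by rw [mul_smul, e', inv_smul_smul])
      exact Subtype.ext (inv_mul_eq_one.1 this).symm
    have hbij := (Nat.bijective_iff_injective_and_card _).2 ⟨hinj, by
      rw [Nat.card_eq_fintype_card (α := {q : G ⧸ N // q ≠ a}), Fintype.card_subtype_compl,
        Fintype.card_subtype_eq, ← Nat.card_eq_fintype_card (α := G ⧸ N), hcard]
      omega⟩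
    obtain ⟨x, hx⟩ := hbij.2 ⟨w, hw⟩
    exact ⟨x, congrArg Subtype.val hx, fun x' hx' => hinj (Subtype.ext (hx'.trans
      (congrArg Subtype.val hx).symm))⟩
  have hC0c : ∀ c d : G, c ∈ C0 M z → d ∈ C0 M z → c * d = d * c := fun c d hc hd =>
    h.c0_comm hI hu huN hzu hc hd
  have hinv : ∀ g : G, g • a = a → g • b = b → u * g * u⁻¹ = g⁻¹ := fun g h1 h2 => by
    rw [inv_eq_self hu]
    exact h.c0_inverted hI hu huN hzu (hpair ▸ ⟨h1, h2⟩)
  have hfix : ∀ g : G, g • a = a → g • b = b → ∀ q, q ≠ a → q ≠ b → g • q = q → g = 1 := by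
    intro g hga hgb q hqa hqb hgq
    have hg : g ∈ C0 M z := hpair ▸ ⟨hga, hgb⟩
    obtain ⟨⟨x, hx⟩, hxq, -⟩ := hreg b q hab.symm hqa
    change x • b = q at hxq
    have hqua : u⁻¹ • q ≠ a := fun e => hqb (by rw [← hua, ← e, smul_inv_smul])
    obtain ⟨⟨y, hy⟩, hyq, -⟩ := hreg b (u⁻¹ • q) hab.symm hqua
    change y • b = u⁻¹ • q at hyq
    obtain ⟨k, hk⟩ : ∃ k, k = u * y := ⟨_, rfl⟩
    have hka : k • a = b := by rw [hk, mul_smul, hMa y hy, hua]
    have hkb : k • b = q := by rw [hk, mul_smul, hyq, smul_inv_smul]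
    have hv : k * u * k⁻¹ * g * (k * u * k⁻¹)⁻¹ = g⁻¹ := by
      have := hinv (k⁻¹ * g * k) (by rw [mul_smul, mul_smul, hka, hgb, inv_smul_eq_iff, hka])
        (by rw [mul_smul, mul_smul, hkb, hgq, inv_smul_eq_iff, hkb])
      calc k * u * k⁻¹ * g * (k * u * k⁻¹)⁻¹ = k * (u * (k⁻¹ * g * k) * u⁻¹) * k⁻¹ := by group
        _ = g⁻¹ := by rw [this]; group
    have ht : x * u * x⁻¹ * g * (x * u * x⁻¹)⁻¹ = g⁻¹ := by
      have := hinv (x⁻¹ * g * x) (by rw [mul_smul, mul_smul, hMa x hx, hga, inv_smul_eq_iff, hMa x hx])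
        (by rw [mul_smul, mul_smul, hxq, hgq, inv_smul_eq_iff, hxq])
      calc x * u * x⁻¹ * g * (x * u * x⁻¹)⁻¹ = x * (u * (x⁻¹ * g * x) * u⁻¹) * x⁻¹ := by group
        _ = g⁻¹ := by rw [this]; group
    obtain ⟨W, hWd⟩ : ∃ W, W = x * u * x⁻¹ * (k * u * k⁻¹) * u := ⟨_, rfl⟩
    have hWa : W ∈ N := by
      refine (hmem W).1 ?_
      have e1 : (k * u * k⁻¹) • b = q := by
        rw [mul_smul, mul_smul, inv_smul_eq_iff.2 hka.symm, hua, hkb]
      have e2 : (x * u * x⁻¹) • q = a := by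
        rw [mul_smul, mul_smul, inv_smul_eq_iff.2 hxq.symm, hub, hMa x hx]
      rw [hWd, mul_smul, hua, mul_smul, e1, e2]
    have hWg : W * g * W⁻¹ = g⁻¹ := by
      have e : x * u * x⁻¹ * g⁻¹ * (x * u * x⁻¹)⁻¹ = g := by
        conv_rhs => rw [← inv_inv g, ← ht]
        group
      calc W * g * W⁻¹ = x * u * x⁻¹ * ((k * u * k⁻¹) * (u * g * u⁻¹) * (k * u * k⁻¹)⁻¹) *
            (x * u * x⁻¹)⁻¹ := by rw [hWd]; group
        _ = x * u * x⁻¹ * ((k * u * k⁻¹) * g * (k * u * k⁻¹)⁻¹)⁻¹ * (x * u * x⁻¹)⁻¹ := by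
            rw [hinv g hga hgb]; group
        _ = g⁻¹ := by rw [hv, inv_inv]; exact ht
    obtain ⟨s, hs, c, hc, hWe⟩ := h.decomp hWa
    have e3 : (s * (g * s⁻¹ * g⁻¹)) * g = 1 * g⁻¹ := by
      rw [one_mul]
      conv_rhs => rw [← hWg, hWe]
      calc s * (g * s⁻¹ * g⁻¹) * g = s * g * s⁻¹ := by group
        _ = s * (c * g * c⁻¹) * s⁻¹ := by rw [hC0c c g hc hg, mul_inv_cancel_right]
        _ = _ := by group
    obtain ⟨-, hgg⟩ := h.unique (mul_mem hs (conj_mem hg.1 (inv_mem hs))) (one_mem M) hg (inv_mem hg) e3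
    rcases h.c0_invol hg (by nth_rw 1 [hgg]; exact inv_mul_cancel g) with h1 | h1
    · exact h1
    subst g
    have hx1 : x⁻¹ * z * x ∈ C0 M z := hpair ▸
      ⟨by show (x⁻¹ * z * x) • a = a; rw [mul_smul, mul_smul, hMa x hx, hga, inv_smul_eq_iff, hMa x hx],
       by show (x⁻¹ * z * x) • b = b; rw [mul_smul, mul_smul, hxq, hgq, inv_smul_eq_iff, hxq]⟩
    have e4 : x⁻¹ * x⁻¹ * z = 1 * (x⁻¹ * z * x) := by
      rw [one_mul, mul_assoc x⁻¹ z x, h.z_conj_mul hx, mul_assoc]
    obtain ⟨h2, -⟩ := h.unique (mul_mem (inv_mem hx) (inv_mem hx)) (one_mem M) hg hx1 e4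
    have := h.not_invol_mem (inv_mem hx) h2
    rw [inv_eq_one.1 this, one_smul] at hxq
    exact absurd hxq.symm hqb
  refine ⟨b, ⟨M, u, hab, ?_, fun g hg x hx => conj_mem ((hmem g).1 hg) hx, fun x hx y hy => h.comm hx hy,
    hreg, hfix, hua, hub⟩, rfl, hpair, hcard, hC0c, fun w hw => ?_⟩
  · rw [hsa]; exact Subgroup.le_normalizer
  by_cases hwN : w ∈ N
  · exact Or.inl ((hmem w).2 hwN)
  refine Or.inr ?_
  have hWd : Nat.card (C0 M z ⊕ C0 M z) = Nat.card (centralizer ({z} : Set G)) := by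
    rw [Nat.card_sum, hW]; ring
  let f : C0 M z ⊕ C0 M z → centralizer ({z} : Set G) := Sum.elim (fun c => ⟨c, c.2.2⟩)
    fun c => ⟨u * c, mul_mem (mem_centralizer_singleton_iff.2 hzu.symm) c.2.2⟩
  have hf : Function.Injective f := by
    rintro (c | c) (d | d) e <;> have e' := congrArg Subtype.val e <;>
      simp only [f, Sum.elim_inl, Sum.elim_inr] at e'
    · exact congrArg Sum.inl (Subtype.ext e')
    · exact absurd ((Subgroup.mul_mem_cancel_right _ d.2.1).1 (e' ▸ c.2.1)) huN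
    · exact absurd ((Subgroup.mul_mem_cancel_right _ c.2.1).1 (e' ▸ d.2.1)) huN
    · exact congrArg Sum.inr (Subtype.ext (mul_left_cancel e'))
  obtain ⟨c | c, e⟩ := ((Nat.bijective_iff_injective_and_card f).2 ⟨hf, hWd⟩).2
    ⟨w, mem_centralizer_singleton_iff.2 hw.symm⟩
  · have e' : (c : G) = w := congrArg Subtype.val e
    exact absurd (e' ▸ c.2.1) hwN
  · have e' : u * (c : G) = w := congrArg Subtype.val e
    rw [← e', mul_smul, (hmem c).2 c.2.1, hua]

/-- `G` is `PGL(2, q)` or `PSL(2, q)`. -/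
theorem case_one (hI : Many M)
    (hW : Nat.card (centralizer ({z} : Set G)) = Nat.card (C0 M z) * 2)
    (hG : Nat.card G = Nat.card M * Nat.card (C0 M z) * (1 + Nat.card M))
    (hm : Nat.card M ≤ 2 * Nat.card (C0 M z) + 1) :
    ∃ (F : Type) (_ : Field F) (_ : Fintype F) (p : ℕ) (_ : Fact p.Prime) (_ : CharP F p),
      Fintype.card F = Nat.card M ∧ Cfsg.IsElementaryAbelian p M ∧
        (Nonempty (G ≃* (GL (Fin 2) F ⧸ Subgroup.center (GL (Fin 2) F))) ∨
         (Fintype.card F % 4 = 1 ∧ Nonempty (G ≃* Matrix.ProjectiveSpecialLinearGroup (Fin 2) F))) := by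
  classical
  obtain ⟨b, D, hDF, hpair, hcard, hC0c, horb⟩ := h.exists_data hI hW hG
  haveI : Fintype (G ⧸ normalizer (M : Set G)) := Fintype.ofFinite _
  have hMc : IsMulCommutative M := ⟨⟨fun x y => Subtype.ext (h.comm x.2 y.2)⟩⟩
  have hm3 := h.three_le_card
  have hp2 : Nat.card ↥(MulAction.stabilizer G ((1 : G) : G ⧸ normalizer (M : Set G)) ⊓ MulAction.stabilizer G b) =
      Nat.card (C0 M z) := by rw [hpair]
  obtain ⟨x1, hx1M, hx11⟩ := M.bot_or_exists_ne_one.resolve_left h.ne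
  have hMF : ∀ x : G, x ∈ M ↔ x ∈ D.F := fun x => by rw [hDF]
  have hregM := D.reg
  rw [hDF] at hregM
  have hx1F : x1 ∈ D.F := (hMF x1).1 hx1M
  have hq3a : x1 • b ≠ ((1 : G) : G ⧸ normalizer (M : Set G)) := D.smul_b_ne ⟨x1, hx1F⟩
  have hq3b : x1 • b ≠ b := fun e => hx11 (D.eq_one_of_mem hx1F e)
  haveI hfaith : FaithfulSMul G (G ⧸ normalizer (M : Set G)) := ⟨fun {g1 g2} e => by
    have := D.three_fix (g2⁻¹ * g1) _ _ _ D.ne hq3b.symm hq3a.symm (by rw [mul_smul, e, inv_smul_smul])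
      (by rw [mul_smul, e, inv_smul_smul]) (by rw [mul_smul, e, inv_smul_smul])
    exact (inv_mul_eq_one.1 this).symm⟩
  have hceven : Even (Nat.card (C0 M z)) := by
    rw [even_iff_two_dvd, ← orderOf_two_iff.2 ⟨h.hz, h.z1⟩]
    exact Subgroup.orderOf_dvd_natCard _ h.z_mem_C0
  rcases D.full_or_half (by rw [hDF]; omega) (by rw [hDF, hp2]; omega) with hfull | hhalf
  · rw [hDF, hp2] at hfull
    obtain ⟨p, hp, hpd⟩ := Nat.exists_prime_and_dvd (show Nat.card M ≠ 1 by omega)
    haveI : Fact p.Prime := ⟨hp⟩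
    obtain ⟨⟨x0, hx0⟩, hx0o⟩ := exists_prime_orderOf_dvd_card' (G := M) p hpd
    rw [Subgroup.orderOf_mk] at hx0o
    have hx01 : x0 ≠ 1 := fun e => by rw [e, orderOf_one] at hx0o; exact hp.one_lt.ne hx0o
    let f : C0 M z → {x : M // x ≠ 1} := fun c => ⟨⟨c * x0 * (c : G)⁻¹, conj_mem c.2.1 hx0⟩,
      fun e => hx01 (conj_eq_one_iff.1 (congrArg Subtype.val e))⟩
    have hf : Function.Injective f := by
      intro c d e
      have e' : (c : G) * x0 * (c : G)⁻¹ = (d : G) * x0 * (d : G)⁻¹ :=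
        congrArg (fun x : {x : M // x ≠ 1} => (x.1 : G)) e
      have hcd : ((d : G)⁻¹ * c) ∈ C0 M z := mul_mem (inv_mem d.2) c.2
      have hcomm : (d : G)⁻¹ * c * x0 = x0 * ((d : G)⁻¹ * c) := by
        calc (d : G)⁻¹ * c * x0 = (d : G)⁻¹ * (c * x0 * (c : G)⁻¹) * c := by group
          _ = (d : G)⁻¹ * (d * x0 * (d : G)⁻¹) * c := by rw [e']
          _ = x0 * ((d : G)⁻¹ * c) := by group
      have hst : (d : G)⁻¹ * c ∈ MulAction.stabilizer G ((1 : G) : G ⧸ normalizer (M : Set G)) ⊓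
          MulAction.stabilizer G b := by rw [hpair]; exact hcd
      rw [Subgroup.mem_inf, MulAction.mem_stabilizer_iff, MulAction.mem_stabilizer_iff] at hst
      have hx0F : x0 ∈ D.F := (hMF x0).1 hx0
      have := D.fix _ hst.1 hst.2 (x0 • b) (D.smul_b_ne ⟨x0, hx0F⟩)
        (fun e2 => hx01 (D.eq_one_of_mem hx0F e2)) (by rw [smul_smul, hcomm, mul_smul, hst.2])
      exact Subtype.ext (inv_mul_eq_one.1 this).symm
    have hbij := (Nat.bijective_iff_injective_and_card f).2 ⟨hf, by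
      haveI : Fintype M := Fintype.ofFinite _
      rw [Nat.card_eq_fintype_card (α := {x : M // x ≠ 1}), Fintype.card_subtype_compl,
        Fintype.card_subtype_eq, ← Nat.card_eq_fintype_card]
      omega⟩
    have hexp : ∀ x ∈ M, x ^ p = 1 := by
      intro x hx
      rcases eq_or_ne x 1 with rfl | hx1
      · exact one_pow p
      obtain ⟨c, hc⟩ := hbij.2 ⟨⟨x, hx⟩, fun e => hx1 (congrArg Subtype.val e)⟩
      have e : (c : G) * x0 * (c : G)⁻¹ = x := congrArg (fun y : {y : M // y ≠ 1} => (y.1 : G)) hc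
      rw [← e, conj_pow, ← hx0o, pow_orderOf_eq_one, mul_one, mul_inv_cancel]
    have hpg : IsPGroup p M := fun x => ⟨1, by
      rw [pow_one]; exact Subtype.ext (by rw [SubmonoidClass.coe_pow]; exact hexp _ x.2)⟩
    obtain ⟨f', hf'⟩ := IsPGroup.iff_card.1 hpg
    obtain ⟨K, hK, hKf, hKc, ⟨e⟩⟩ := D.pgl_of_full hp (by rw [hDF]; exact hexp) (by rw [hDF]; exact hf')
      (by rw [hDF]; exact h.odd_card) (by rw [hDF]; omega) (by rw [hDF, hp2]; exact hfull)
      (by rw [hpair]; exact fun c hc d hd => hC0c c d hc hd)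
    haveI : CharP K p := charP_of_card_eq_prime_pow hKc
    exact ⟨K, hK, hKf, p, inferInstance, inferInstance, by rw [hKc, hf'], ⟨hMc, hexp⟩, Or.inl ⟨e⟩⟩
  · rw [hDF, hp2] at hhalf
    have h2p := D.two_transitive
    have hZ : Cfsg.IsZassenhausGroup G (G ⧸ normalizer (M : Set G)) := by
      refine ⟨hfaith, h2p, fun g q r s h1 h2 h3 => D.three_fix g q r s h1 h2 h3,
        ⟨z, h.z1, _, b, D.ne, ?_⟩, fun R hR hRt => ?_⟩
      · have := hpair.symm ▸ h.z_mem_C0
        exact ⟨this.1, this.2⟩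
      by_contra hall
      push Not at hall
      obtain ⟨a, ha⟩ : ∃ a : G ⧸ normalizer (M : Set G), a = ((1 : G) : G ⧸ normalizer (M : Set G)) := ⟨_, rfl⟩
      have hst : ∀ r : R, (r : G) • a = a → r = 1 := fun r hr =>
        Subgroup.mem_bot.1 (hall a ▸ (MulAction.mem_stabilizer_iff.2 hr))
      have hRinj : Function.Injective fun r : R => (r : G) • a := by
        intro r s e
        have := hst (s⁻¹ * r) (by
          rw [Subgroup.coe_mul, Subgroup.coe_inv, mul_smul, show (r : G) • a = (s : G) • a from e,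
            inv_smul_smul])
        exact (inv_mul_eq_one.1 this).symm
      have hRsur : Function.Surjective fun r : R => (r : G) • a := fun q =>
        hRt.exists_smul_eq a q
      have hRcard : Nat.card R = Nat.card M + 1 := by
        rw [← hcard]; exact Nat.card_eq_of_bijective _ ⟨hRinj, hRsur⟩
      have hMa : ∀ x ∈ M, x • a = a := fun x hx => by rw [ha]; exact D.le ((hMF x).1 hx)
      have hconj : ∀ r s : R, r ≠ 1 → s ≠ 1 → ∃ x : G, x * (r : G) * x⁻¹ = s := by
        intro r s hr hs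
        have hra : (r : G) • a ≠ ((1 : G) : G ⧸ normalizer (M : Set G)) := fun e => hr (hst r (e.trans ha.symm))
        have hsa : (s : G) • a ≠ ((1 : G) : G ⧸ normalizer (M : Set G)) := fun e => hs (hst s (e.trans ha.symm))
        obtain ⟨⟨x, hx⟩, hxr, -⟩ := hregM _ _ hra hsa
        change x • (r : G) • a = (s : G) • a at hxr
        refine ⟨x, congrArg Subtype.val (hRinj (a₁ := ⟨x * r * x⁻¹, hR.conj_mem _ r.2 x⟩) (a₂ := s) ?_)⟩
        show (x * (r : G) * x⁻¹) • a = (s : G) • a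
        rw [← hxr, mul_smul, mul_smul, inv_smul_eq_iff.2 (hMa x hx).symm]
      obtain ⟨j, hj⟩ := h.odd_card
      obtain ⟨⟨t, htR⟩, ht⟩ := exists_prime_orderOf_dvd_card' (G := R) 2 (by rw [hRcard]; omega)
      obtain ⟨ht2, ht1⟩ := orderOf_two_iff.1 ht
      have hexp : ∀ r : R, r * r = 1 := by
        intro r
        rcases eq_or_ne r 1 with rfl | hr1
        · exact one_mul 1
        obtain ⟨x, hx⟩ := hconj ⟨t, htR⟩ r ht1 hr1
        apply Subtype.ext
        rw [Subgroup.coe_mul, ← hx, Subgroup.coe_one]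
        calc x * t * x⁻¹ * (x * t * x⁻¹) = x * (t * t) * x⁻¹ := by group
          _ = 1 := by rw [show t * t = 1 from congrArg Subtype.val ht2]; group
      have hRc : ∀ r s : R, r * s = s * r := fun r s => by
        rw [← inv_eq_self (hexp (r * s)), mul_inv_rev, inv_eq_self (hexp r), inv_eq_self (hexp s)]
      letI : CommGroup R := { (inferInstance : Group R) with mul_comm := hRc }
      let φ : R →* R := MonoidHom.mk'
        (fun r => r * ⟨z * r * z⁻¹, hR.conj_mem _ r.2 z⟩) fun r s => by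
          have e : (⟨z * (r * s : R) * z⁻¹, hR.conj_mem _ (r * s).2 z⟩ : R) =
              ⟨z * r * z⁻¹, hR.conj_mem _ r.2 z⟩ * ⟨z * s * z⁻¹, hR.conj_mem _ s.2 z⟩ :=
            Subtype.ext (by simp [mul_assoc])
          rw [e]
          exact mul_mul_mul_comm r s _ _
      have hφ : ∀ r : R, ((φ r : R) : G) = r * (z * r * z⁻¹) := fun r => rfl
      have hfixle : ∀ S : Subgroup R, (∀ r ∈ S, z * (r : G) = r * z) → Nat.card S ≤ 2 := by
        intro S hS
        let g : S → ({((1 : G) : G ⧸ normalizer (M : Set G)), b} : Finset (G ⧸ normalizer (M : Set G))) := fun r => ⟨((r : R) : G) • a, by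
          rw [Finset.mem_insert, Finset.mem_singleton, ha]
          exact horb _ (hS r r.2)⟩
        refine (Nat.card_le_card_of_injective g fun r s e =>
          Subtype.ext (hRinj (congrArg Subtype.val e))).trans ?_
        rw [Nat.card_eq_fintype_card, Fintype.card_coe]
        exact Finset.card_le_two
      have hzz : ∀ r : R, z * ((φ r : R) : G) = (φ r : R) * z := by
        intro r
        have hr := congrArg Subtype.val (hRc r ⟨z * r * z⁻¹, hR.conj_mem _ r.2 z⟩)
        change (r : G) * (z * r * z⁻¹) = z * r * z⁻¹ * r at hr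
        rw [h.z_inv] at hr
        rw [hφ, h.z_inv]
        calc z * ((r : G) * (z * r * z)) = (z * r * z * r) * z := by group
          _ = _ := by rw [← hr]
      have hk2 : Nat.card φ.ker ≤ 2 := hfixle _ fun r hr => by
        have e : (r : G) * (z * r * z⁻¹) = 1 := by rw [← hφ, MonoidHom.mem_ker.1 hr]; rfl
        have hrr : (r : G)⁻¹ = r := inv_eq_self (congrArg Subtype.val (hexp r))
        have e2 := eq_inv_of_mul_eq_one_right e
        rw [hrr] at e2
        calc z * (r : G) = z * r * z⁻¹ * z := by group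
          _ = r * z := by rw [e2]
      have hr2 : Nat.card φ.range ≤ 2 := hfixle _ (by rintro _ ⟨r, rfl⟩; exact hzz r)
      have := φ.ker.card_mul_index
      rw [Subgroup.index_ker] at this
      have := Nat.mul_le_mul hk2 hr2
      obtain ⟨i, hi⟩ := hceven
      have : 0 < Nat.card (C0 M z) := Nat.card_pos
      omega
    have hd : 2 * Nat.card ↥(MulAction.stabilizer G ((1 : G) : G ⧸ normalizer (M : Set G)) ⊓ MulAction.stabilizer G b) ≤
        Fintype.card (G ⧸ normalizer (M : Set G)) - 2 := by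
      rw [hp2, ← Nat.card_eq_fintype_card, hcard]; omega
    obtain ⟨p, f, K, hK, hKf, hp, -, hKc, hΩ, ⟨e⟩⟩ :=
      CfsgLib.Perm.ZEven.iso_psl hZ D.ne (by rw [hp2]; exact hceven) hd
    obtain ⟨-, p', f', hp', hexp, hΩ'⟩ := CfsgLib.Perm.ZReg.regular_elementary hZ D.ne
      (by rw [hp2, ← Nat.card_eq_fintype_card, hcard]; omega) M (fun x hx => D.le ((hMF x).1 hx))
      (by
        refine ⟨fun x hx g => ?_⟩
        rw [Subgroup.mem_subgroupOf] at hx ⊢
        exact (hMF _).2 (D.normal g g.2 x ((hMF _).1 hx)))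
      hregM
    rw [← Nat.card_eq_fintype_card, hcard] at hΩ hΩ'
    have hKc' : Fintype.card K = p' ^ f' := by omega
    haveI : Fact p'.Prime := ⟨hp'⟩
    haveI : CharP K p' := charP_of_card_eq_prime_pow hKc'
    refine ⟨K, hK, hKf, p', inferInstance, inferInstance, by omega, ⟨hMc, hexp⟩, Or.inr ⟨?_, ⟨e⟩⟩⟩
    obtain ⟨i, hi⟩ := hceven
    omega

end Hyp

end CfsgLib.Perm.TIInvol
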