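import Mathlib.GroupTheory.FixedPointFree
import Mathlib.GroupTheory.Index
import Mathlib.GroupTheory.OrderOfElement
import Mathlib.Algebra.Group.Subgroup.Pointwise
import Mathlib.Tactic

/-!
# A TI subgroup whose normaliser is a product with an involution centraliser

`M` meets its other conjugates trivially, `N(M) = M · C_{N(M)}(z)` and no involution centralises a
non-identity element of `M`.  If `G` has more than `[G : M]` involutions, every element outside
`N(M)` is `x` times an involution with a unique `x ∈ M`.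
-/

set_option autoImplicit false
set_option linter.style.haveILetI false
set_option linter.unusedSectionVars false
set_option linter.unusedSimpArgs false

namespace CfsgLib.Perm.TIInvol

open Subgroup

universe u

variable {G : Type u} [Group G]

/-- The centraliser of `z` in the normaliser of `M`. -/
abbrev C0 (M : Subgroup G) (z : G) : Subgroup G :=
  normalizer (M : Set G) ⊓ centralizer ({z} : Set G)

/-- The hypotheses on `M` and `z`. -/
structure Hyp (M : Subgroup G) (z : G) : Prop where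
  ne : M ≠ ⊥
  ti : ∀ g x : G, x ∈ M → x ≠ 1 → g * x * g⁻¹ ∈ M → g ∈ normalizer (M : Set G)
  hz : z * z = 1
  z1 : z ≠ 1
  zN : z ∈ normalizer (M : Set G)
  fac : M ⊔ C0 M z = normalizer (M : Set G)
  odd : ∀ x ∈ M, x ≠ 1 → ∀ t : G, t * t = 1 → t * x = x * t → t = 1

/-- There are more involutions than cosets of `M`. -/
def Many (M : Subgroup G) : Prop := M.index < Nat.card {g : G // orderOf g = 2}

variable {M : Subgroup G} {z : G}

theorem inv_eq_self {t : G} (ht : t * t = 1) : t⁻¹ = t := inv_eq_of_mul_eq_one_right ht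

theorem orderOf_two_iff {t : G} : orderOf t = 2 ↔ t * t = 1 ∧ t ≠ 1 := by
  constructor
  · intro h
    refine ⟨by rw [← sq, ← h, pow_orderOf_eq_one], fun e => ?_⟩
    rw [e, orderOf_one] at h
    omega
  · rintro ⟨h, h1⟩
    exact orderOf_eq_prime (by rw [sq, h]) h1

theorem conj_mem {g x : G} (hg : g ∈ normalizer (M : Set G)) (hx : x ∈ M) : g * x * g⁻¹ ∈ M :=
  ((mem_normalizer_iff.1 hg) x).1 hx

theorem conj_mem' {g x : G} (hg : g ∈ normalizer (M : Set G)) (hx : x ∈ M) : g⁻¹ * x * g ∈ M := by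
  simpa using conj_mem (inv_mem hg) hx

theorem c0_comm_z {c : G} (hc : c ∈ C0 M z) : c * z = z * c :=
  mem_centralizer_singleton_iff.1 hc.2

namespace Hyp

variable [Finite G] (h : Hyp M z)
include h

theorem z_mem_C0 : z ∈ C0 M z := ⟨h.zN, mem_centralizer_singleton_iff.2 rfl⟩

theorem z_inv : z⁻¹ = z := inv_eq_self h.hz

theorem not_invol_mem {t : G} (ht : t ∈ M) (h2 : t * t = 1) : t = 1 :=
  by_contra fun ht1 => ht1 (h.odd t ht ht1 t h2 rfl)

theorem centralized_eq_one {t x : G} (h2 : t * t = 1) (ht : t ≠ 1) (hx : x ∈ M) (hc : t * x = x * t) :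
    x = 1 :=
  by_contra fun hx1 => ht (h.odd x hx hx1 t h2 hc)

/-- Every involution of the normaliser inverts `M`, which is abelian of odd order. -/
theorem invol_facts {t : G} (htN : t ∈ normalizer (M : Set G)) (h2 : t * t = 1) (ht : t ≠ 1) :
    (∀ x ∈ M, t * x * t = x⁻¹) ∧ (∀ x ∈ M, ∀ y ∈ M, x * y = y * x) ∧ Odd (Nat.card M) := by
  classical
  let φ : M →* M := MonoidHom.mk' (fun x => ⟨t * x * t⁻¹, conj_mem htN x.2⟩)
    fun x y => Subtype.ext (by simp [mul_assoc])
  have hfix : MonoidHom.FixedPointFree φ := by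
    intro x e
    have e' : t * (x : G) * t⁻¹ = x := congrArg Subtype.val e
    exact Subtype.ext (h.centralized_eq_one h2 ht x.2 (mul_inv_eq_iff_eq_mul.1 e'))
  have hinv : Function.Involutive φ := fun x => Subtype.ext (by
    show t * (t * (x : G) * t⁻¹) * t⁻¹ = x
    rw [inv_eq_self h2]
    calc t * (t * (x : G) * t) * t = (t * t) * x * (t * t) := by group
      _ = x := by rw [h2, one_mul, mul_one])
  have key : ∀ x : M, φ x = x⁻¹ := fun x => congrFun (hfix.coe_eq_inv_of_involutive hinv) x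
  refine ⟨fun x hx => ?_, fun x hx y hy => ?_, hfix.odd_card_of_involutive hinv⟩
  · have := congrArg Subtype.val (key ⟨x, hx⟩)
    change t * x * t⁻¹ = x⁻¹ at this
    rwa [inv_eq_self h2] at this
  · exact congrArg Subtype.val (hfix.commute_all_of_involutive hinv ⟨x, hx⟩ ⟨y, hy⟩)

theorem z_inverts {x : G} (hx : x ∈ M) : z * x * z = x⁻¹ := (h.invol_facts h.zN h.hz h.z1).1 x hx

theorem comm {x y : G} (hx : x ∈ M) (hy : y ∈ M) : x * y = y * x :=
  (h.invol_facts h.zN h.hz h.z1).2.1 x hx y hy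

theorem odd_card : Odd (Nat.card M) := (h.invol_facts h.zN h.hz h.z1).2.2

theorem one_lt_card : 1 < Nat.card M := by
  have := Nat.card_pos (α := M)
  have h1 : Nat.card M ≠ 1 := fun e => h.ne (card_eq_one.1 e)
  omega

theorem three_le_card : 3 ≤ Nat.card M := by
  have := h.one_lt_card
  obtain ⟨j, hj⟩ := h.odd_card
  omega

theorem z_conj_mul {x : G} (hx : x ∈ M) : z * x = x⁻¹ * z := by
  rw [← h.z_inverts hx, mul_assoc (z * x), h.hz, mul_one]

theorem exists_sqrt {x : G} (hx : x ∈ M) : ∃ y ∈ M, y * y = x := by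
  obtain ⟨j, hj⟩ := h.odd_card
  refine ⟨x ^ (j + 1), pow_mem hx _, ?_⟩
  have he' : x ^ Nat.card M = 1 := orderOf_dvd_iff_pow_eq_one.1 (Subgroup.orderOf_dvd_natCard M hx)
  rw [← pow_add, show j + 1 + (j + 1) = Nat.card M + 1 by omega, pow_succ, he', one_mul]

theorem eq_one_of_sq {x : G} (hx : x ∈ M) (e : x⁻¹ = x) : x = 1 :=
  h.not_invol_mem hx (by rw [← mul_inv_cancel x, e])

theorem decomp {g : G} (hg : g ∈ normalizer (M : Set G)) : ∃ x ∈ M, ∃ c ∈ C0 M z, g = x * c := by
  have he : g ∈ (↑(M ⊔ C0 M z) : Set G) := by rw [h.fac]; exact hg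
  rw [coe_mul_of_right_le_normalizer_left M (C0 M z) inf_le_left] at he
  obtain ⟨x, hx, c, hc, rfl⟩ := he
  exact ⟨x, hx, c, hc, rfl⟩

theorem inf_bot {x : G} (hx : x ∈ M) (hc : x ∈ C0 M z) : x = 1 :=
  h.centralized_eq_one h.hz h.z1 hx (c0_comm_z hc).symm

theorem unique {x x' c c' : G} (hx : x ∈ M) (hx' : x' ∈ M) (hc : c ∈ C0 M z) (hc' : c' ∈ C0 M z)
    (e : x * c = x' * c') : x = x' ∧ c = c' := by
  have e1 : x'⁻¹ * x = c' * c⁻¹ := by
    calc x'⁻¹ * x = x'⁻¹ * (x * c) * c⁻¹ := by group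
      _ = c' * c⁻¹ := by rw [e]; group
  have h1 := h.inf_bot (mul_mem (inv_mem hx') hx) (e1 ▸ mul_mem hc' (inv_mem hc))
  have := inv_mul_eq_one.1 h1
  subst this
  exact ⟨rfl, mul_left_cancel e⟩

theorem card_N : Nat.card ↥(normalizer (M : Set G)) = Nat.card M * Nat.card (C0 M z) := by
  rw [← Nat.card_prod, eq_comm]
  refine Nat.card_eq_of_bijective (fun p => (⟨p.1.1 * p.2.1, ?_⟩ : normalizer (M : Set G))) ⟨?_, ?_⟩
  · exact mul_mem (Subgroup.le_normalizer p.1.2) p.2.2.1
  · rintro ⟨⟨x, hx⟩, ⟨c, hc⟩⟩ ⟨⟨x', hx'⟩, ⟨c', hc'⟩⟩ e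
    obtain ⟨rfl, rfl⟩ := h.unique hx hx' hc hc' (congrArg Subtype.val e)
    rfl
  · rintro ⟨g, hg⟩
    obtain ⟨x, hx, c, hc, rfl⟩ := h.decomp hg
    exact ⟨(⟨x, hx⟩, ⟨c, hc⟩), rfl⟩

theorem c0_invol {c : G} (hc : c ∈ C0 M z) (h2 : c * c = 1) : c = 1 ∨ c = z := by
  by_contra hne
  push Not at hne
  obtain ⟨x, hx, hx1⟩ := M.bot_or_exists_ne_one.resolve_left h.ne
  have hcz : c * z * (c * z) = 1 := by
    calc c * z * (c * z) = c * (z * c) * z := by group
      _ = c * (c * z) * z := by rw [c0_comm_z hc]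
      _ = (c * c) * (z * z) := by group
      _ = 1 := by rw [h2, h.hz, one_mul]
  have h1 := (h.invol_facts hc.1 h2 hne.1).1 x hx
  have h3 : c * z * x = x * (c * z) := by
    calc c * z * x = c * (z * x) := by group
      _ = c * (x⁻¹ * z) := by rw [h.z_conj_mul hx]
      _ = (c * x * c)⁻¹ * (c * z) := by
          rw [mul_inv_rev, mul_inv_rev, inv_eq_self h2]
          calc c * (x⁻¹ * z) = c * x⁻¹ * (c * c) * z := by rw [h2]; group
            _ = c * (x⁻¹ * c) * (c * z) := by group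
      _ = x * (c * z) := by rw [h1, inv_inv]
  have := h.odd x hx hx1 _ hcz h3
  exact hne.2 ((eq_inv_of_mul_eq_one_left this).trans h.z_inv)

theorem invol_form {t : G} (htN : t ∈ normalizer (M : Set G)) (h2 : t * t = 1) (ht : t ≠ 1) :
    ∃ x ∈ M, t = x * z := by
  obtain ⟨x, hx, c, hc, rfl⟩ := h.decomp htN
  have e : (x * (c * x * c⁻¹)) * (c * c) = 1 * 1 := by
    rw [one_mul, ← h2]; group
  obtain ⟨-, hcc⟩ := h.unique (mul_mem hx (conj_mem hc.1 hx)) (one_mem M) (mul_mem hc hc)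
    (one_mem _) e
  rcases h.c0_invol hc hcc with rfl | rfl
  · rw [mul_one] at h2 ht
    exact absurd (h.not_invol_mem hx h2) ht
  · exact ⟨x, hx, rfl⟩

theorem mz_invol {x : G} (hx : x ∈ M) :
    x * z * (x * z) = 1 ∧ x * z ≠ 1 ∧ x * z ∈ normalizer (M : Set G) := by
  refine ⟨?_, fun e => ?_, mul_mem (Subgroup.le_normalizer hx) h.zN⟩
  · calc x * z * (x * z) = x * (z * x * z) := by group
      _ = 1 := by rw [h.z_inverts hx, mul_inv_cancel]
  · have hzM : z ∈ M := by rw [eq_inv_of_mul_eq_one_right e]; exact inv_mem hx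
    exact h.z1 (h.not_invol_mem hzM h.hz)

theorem coset_unique {u x : G} (hu : u * u = 1) (huN : u ∉ normalizer (M : Set G)) (hx : x ∈ M)
    (hxu : x * u * (x * u) = 1) : x = 1 := by
  by_contra hx1
  apply huN
  have e : u * x * u⁻¹ = x⁻¹ := by
    rw [inv_eq_self hu]
    calc u * x * u = x⁻¹ * (x * u * (x * u)) := by group
      _ = x⁻¹ := by rw [hxu, mul_one]
  exact h.ti u x hx hx1 (e ▸ inv_mem hx)

/-- The outer involutions. -/
theorem many_count (hI : Many M) :
    (∀ g ∉ normalizer (M : Set G), ∃ x ∈ M, x * g * (x * g) = 1) ∧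
      Nat.card {u : G // u * u = 1 ∧ u ∉ normalizer (M : Set G)} + Nat.card (C0 M z) = M.index ∧
      Nat.card {g : G // orderOf g = 2} =
        Nat.card M + Nat.card {u : G // u * u = 1 ∧ u ∉ normalizer (M : Set G)} := by
  classical
  set N := normalizer (M : Set G) with hN
  let O := {u : G // u * u = 1 ∧ u ∉ N}
  have hI2 : Nat.card {g : G // orderOf g = 2} = Nat.card M + Nat.card O := by
    rw [← Nat.card_sum, eq_comm]
    refine Nat.card_eq_of_bijective
      (Sum.elim (fun x : M => (⟨x * z, orderOf_two_iff.2 ⟨(h.mz_invol x.2).1, (h.mz_invol x.2).2.1⟩⟩ :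
          {g : G // orderOf g = 2}))
        fun u : O => ⟨u.1, orderOf_two_iff.2 ⟨u.2.1, fun e => u.2.2 (by rw [e]; exact one_mem N)⟩⟩) ⟨?_, ?_⟩
    · rintro (x | u) (y | v) e <;> have e' := congrArg Subtype.val e <;> simp only [Sum.elim_inl,
        Sum.elim_inr] at e'
      · exact congrArg Sum.inl (Subtype.ext (mul_right_cancel e'))
      · exact absurd (e' ▸ (h.mz_invol x.2).2.2) v.2.2
      · exact absurd (e'.symm ▸ (h.mz_invol y.2).2.2) u.2.2
      · exact congrArg Sum.inr (Subtype.ext e')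
    · rintro ⟨g, hg⟩
      obtain ⟨hg2, hg1⟩ := orderOf_two_iff.1 hg
      by_cases hgN : g ∈ N
      · obtain ⟨x, hx, rfl⟩ := h.invol_form hgN hg2 hg1
        exact ⟨Sum.inl ⟨x, hx⟩, rfl⟩
      · exact ⟨Sum.inr ⟨g, hg2, hgN⟩, rfl⟩
  let f : N ⊕ (M × O) → G := Sum.elim (fun g => g.1) fun p => p.1.1 * p.2.1
  have hout : ∀ p : M × O, p.1.1 * p.2.1 ∉ N := fun p e =>
    p.2.2.2 ((N.mul_mem_cancel_left (Subgroup.le_normalizer p.1.2)).1 e)
  have hf : Function.Injective f := by
    rintro (g | p) (g' | q) e <;> simp only [f, Sum.elim_inl, Sum.elim_inr] at e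
    · exact congrArg Sum.inl (Subtype.ext e)
    · exact absurd (e ▸ g.2) (hout q)
    · exact absurd (e.symm ▸ g'.2) (hout p)
    · obtain ⟨⟨x, hx⟩, ⟨u, hu⟩⟩ := p
      obtain ⟨⟨y, hy⟩, ⟨v, hv⟩⟩ := q
      simp only at e
      have ev : v = y⁻¹ * x * u := by rw [mul_assoc, e, inv_mul_cancel_left]
      have h1 := h.coset_unique hu.1 hu.2 (mul_mem (inv_mem hy) hx) (by rw [← ev]; exact hv.1)
      have := inv_mul_eq_one.1 h1
      subst this
      obtain rfl := mul_left_cancel e
      rfl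
  have hsurj : Function.Surjective f := by
    intro g0
    by_contra hne
    push Not at hne
    have hg0N : g0 ∉ N := fun e => hne (Sum.inl ⟨g0, e⟩) rfl
    let f' : (N ⊕ (M × O)) ⊕ (M × M) → G := Sum.elim f fun p => p.1.1 * g0 * p.2.1
    have hbad : ∀ (p : M × M) (a : N ⊕ (M × O)), f a ≠ p.1.1 * g0 * p.2.1 := by
      rintro ⟨⟨x, hx⟩, ⟨y, hy⟩⟩ (g | ⟨⟨w, hw⟩, ⟨u, hu⟩⟩) e <;>
        simp only [f, Sum.elim_inl, Sum.elim_inr] at e
      · apply hg0N
        have : g0 = x⁻¹ * g.1 * y⁻¹ := by rw [e]; group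
        rw [this]
        exact mul_mem (mul_mem (inv_mem (Subgroup.le_normalizer hx)) g.2)
          (inv_mem (Subgroup.le_normalizer hy))
      · refine hne (Sum.inr (⟨x⁻¹ * w * y⁻¹, mul_mem (mul_mem (inv_mem hx) hw) (inv_mem hy)⟩,
          ⟨y * u * y⁻¹, ?_, fun e' => hu.2 ?_⟩)) ?_
        · calc y * u * y⁻¹ * (y * u * y⁻¹) = y * (u * u) * y⁻¹ := by group
            _ = 1 := by rw [hu.1]; group
        · have := mul_mem (mul_mem (inv_mem (Subgroup.le_normalizer hy)) e')
            (Subgroup.le_normalizer hy)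
          simpa [mul_assoc] using this
        · show x⁻¹ * w * y⁻¹ * (y * u * y⁻¹) = g0
          calc x⁻¹ * w * y⁻¹ * (y * u * y⁻¹) = x⁻¹ * (w * u) * y⁻¹ := by group
            _ = g0 := by rw [e]; group
    have hf' : Function.Injective f' := by
      rintro (a | p) (b | q) e <;> simp only [f', Sum.elim_inl, Sum.elim_inr] at e
      · exact congrArg Sum.inl (hf e)
      · exact absurd e (hbad q a)
      · exact absurd e.symm (hbad p b)
      · obtain ⟨⟨x, hx⟩, ⟨y, hy⟩⟩ := p
        obtain ⟨⟨x', hx'⟩, ⟨y', hy'⟩⟩ := q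
        simp only at e
        have e1 : g0 * (y * y'⁻¹) * g0⁻¹ = x⁻¹ * x' := by
          calc g0 * (y * y'⁻¹) * g0⁻¹ = x⁻¹ * (x * g0 * y) * y'⁻¹ * g0⁻¹ := by group
            _ = x⁻¹ * x' := by rw [e]; group
        have hy1 : y * y'⁻¹ = 1 := by_contra fun hne' => hg0N (h.ti g0 _ (mul_mem hy (inv_mem hy'))
          hne' (e1 ▸ mul_mem (inv_mem hx) hx'))
        have := mul_inv_eq_one.1 hy1
        subst this
        obtain rfl := mul_right_cancel (mul_right_cancel e)
        rfl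
    have hle := Nat.card_le_card_of_injective f' hf'
    rw [Nat.card_sum, Nat.card_sum, Nat.card_prod, Nat.card_prod, hN, h.card_N,
      ← M.card_mul_index] at hle
    have hlt : M.index < Nat.card {g : G // orderOf g = 2} := hI
    have h1 : Nat.card M * (Nat.card (C0 M z) + Nat.card O + Nat.card M) ≤ Nat.card M * M.index := by
      rw [mul_add, mul_add]; exact hle
    have := Nat.le_of_mul_le_mul_left h1 Nat.card_pos
    have hc0 : 0 < Nat.card (C0 M z) := Nat.card_pos
    omega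
  refine ⟨fun g hg => ?_, ?_, hI2⟩
  · obtain ⟨a | ⟨⟨x, hx⟩, ⟨u, hu⟩⟩, e⟩ := hsurj g
    · exact absurd (show g ∈ N from e ▸ a.2) hg
    · refine ⟨x⁻¹, inv_mem hx, ?_⟩
      simp only [f, Sum.elim_inr] at e
      rw [← e, inv_mul_cancel_left]
      exact hu.1
  · have hcard := Nat.card_eq_of_bijective f ⟨hf, hsurj⟩
    rw [Nat.card_sum, Nat.card_prod, hN, h.card_N, ← M.card_mul_index, ← mul_add] at hcard
    have := Nat.eq_of_mul_eq_mul_left Nat.card_pos hcard
    rw [add_comm]
    exact this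

section Outer

variable (hI : Many M)
include hI

theorem exists_invol {g : G} (hg : g ∉ normalizer (M : Set G)) : ∃ x ∈ M, x * g * (x * g) = 1 :=
  (h.many_count hI).1 g hg

theorem move_eq_one {u x : G} (hu : u * u = 1) (huN : u ∉ normalizer (M : Set G)) (hx : x ∈ M)
    (hux : u * x * u ∈ normalizer (M : Set G)) : x = 1 := by
  have hzu : z * u ∉ normalizer (M : Set G) := fun e =>
    huN ((Subgroup.mul_mem_cancel_left _ h.zN).1 e)
  obtain ⟨a, ha, hau⟩ := h.exists_invol hI hzu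
  obtain ⟨hj2, hj1, hjN⟩ := h.mz_invol ha
  obtain ⟨j, hj⟩ : ∃ j, j = a * z := ⟨_, rfl⟩
  rw [← hj] at hj2 hj1 hjN
  have huj : u * j * u = j := by
    have : j * u * (j * u) = 1 := by rw [hj, mul_assoc a z u]; exact hau
    calc u * j * u = j⁻¹ * (j * u * (j * u)) := by group
      _ = j := by rw [this, mul_one, inv_eq_self hj2]
  have hjx := (h.invol_facts hjN hj2 hj1).1 x hx
  obtain ⟨y, hy, c, hc, hg⟩ := h.decomp hux
  have e1 : j * (y * c) * j = (y * c)⁻¹ := by
    rw [← hg]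
    calc j * (u * x * u) * j = j * (u * x * u) * j := rfl
      _ = (u * j * u) * (u * x * u) * (u * j * u) := by rw [huj]
      _ = u * j * (u * u) * x * (u * u) * j * u := by group
      _ = u * (j * x * j) * u := by rw [hu]; group
      _ = u * x⁻¹ * u := by rw [hjx]
      _ = (u * x * u)⁻¹ := by rw [mul_inv_rev, mul_inv_rev, inv_eq_self hu, mul_assoc]
  have e2 : (a * y⁻¹ * (c * a⁻¹ * c⁻¹)) * c = (c⁻¹ * y⁻¹ * c) * c⁻¹ := by
    calc a * y⁻¹ * (c * a⁻¹ * c⁻¹) * c = a * y⁻¹ * c * a⁻¹ := by group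
      _ = a * y⁻¹ * c * (z * a * z) := by rw [h.z_inverts ha]
      _ = a * y⁻¹ * (c * z) * a * z := by group
      _ = a * y⁻¹ * (z * c) * a * z := by rw [c0_comm_z hc]
      _ = a * (y⁻¹ * z) * c * a * z := by group
      _ = a * (z * y) * c * a * z := by rw [← h.z_conj_mul hy]
      _ = j * (y * c) * j := by rw [hj]; group
      _ = (y * c)⁻¹ := e1
      _ = _ := by group
  obtain ⟨-, hcc⟩ := h.unique
    (mul_mem (mul_mem ha (inv_mem hy)) (conj_mem hc.1 (inv_mem ha)))
    (conj_mem' hc.1 (inv_mem hy)) hc (inv_mem hc) e2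
  have hsq : u * x * u * (u * x * u) ∈ M := by
    rw [hg]
    have : y * c * (y * c) = y * (c * y * c⁻¹) := by
      calc y * c * (y * c) = y * (c * y * c⁻¹) * (c * c) := by group
        _ = y * (c * y * c⁻¹) * (c * c⁻¹) := by rw [← hcc]
        _ = _ := by group
    rw [this]
    exact mul_mem hy (conj_mem hc.1 hy)
  obtain ⟨w, hw, hw2⟩ := h.exists_sqrt hx
  have : u * x * u = (u * w * u) * (u * w * u) := by
    rw [← hw2]
    calc u * (w * w) * u = u * w * 1 * w * u := by group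
      _ = u * w * (u * u) * w * u := by rw [hu]
      _ = _ := by group
  obtain ⟨i, hi⟩ := h.odd_card
  have hwm : x ^ Nat.card M = 1 := orderOf_dvd_iff_pow_eq_one.1 (Subgroup.orderOf_dvd_natCard M hx)
  have hgM : u * x * u ∈ M := by
    have e3 : (u * x * u) ^ Nat.card M = 1 := by
      have e4 := conj_pow (a := u) (b := x) (i := Nat.card M)
      rw [inv_eq_self hu] at e4
      rw [e4, hwm, mul_one, hu]
    have e5 : u * x * u = ((u * x * u) * (u * x * u)) ^ (i + 1) := by
      rw [← sq, ← pow_mul, show 2 * (i + 1) = Nat.card M + 1 by omega, pow_succ, e3, one_mul]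
    rw [e5]
    exact pow_mem hsq _
  by_contra hx1
  refine huN (h.ti u x hx hx1 ?_)
  rw [inv_eq_self hu]
  exact hgM

/-- An element of `N ∩ N^u` for an outer involution `u` that commutes with `z` lies in
`C_{N}(z)` and is inverted by `u`. -/
theorem inter_facts {u : G} (hu : u * u = 1) (huN : u ∉ normalizer (M : Set G)) (hzu : z * u = u * z)
    {g : G} (hg : g ∈ normalizer (M : Set G)) (hgu : u * g * u ∈ normalizer (M : Set G)) :
    g ∈ C0 M z ∧ u * g * u = g⁻¹ := by
  have inv_of : ∀ d ∈ normalizer (M : Set G), u * d * u ∈ normalizer (M : Set G) →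
      u * d * u = d⁻¹ := by
    intro d hd hdu
    obtain ⟨y, hy, c, hc, rfl⟩ := h.decomp hd
    obtain ⟨x, hx, hxu⟩ := h.exists_invol hI (g := c * u) fun e =>
      huN ((Subgroup.mul_mem_cancel_left _ hc.1).1 e)
    have hxc : u * (x * c) * u = (x * c)⁻¹ := by
      calc u * (x * c) * u = (x * c)⁻¹ * (x * (c * u) * (x * (c * u))) := by group
        _ = (x * c)⁻¹ := by rw [hxu, mul_one]
    have hm : y * x⁻¹ ∈ M := mul_mem hy (inv_mem hx)
    have h1 : u * (y * x⁻¹) * u ∈ normalizer (M : Set G) := by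
      have e : u * (y * x⁻¹) * u = (u * (y * c) * u) * (u * (x * c) * u)⁻¹ := by
        calc u * (y * x⁻¹) * u = u * (y * x⁻¹) * u⁻¹ := by rw [inv_eq_self hu]
          _ = _ := by group
      rw [e, hxc, inv_inv]
      exact mul_mem hdu (mul_mem (Subgroup.le_normalizer hx) hc.1)
    have := mul_inv_eq_one.1 (h.move_eq_one hI hu huN hm h1)
    subst this
    exact hxc
  have e := inv_of g hg hgu
  refine ⟨⟨hg, mem_centralizer_singleton_iff.2 ?_⟩, e⟩
  have huz : u * z * u = z := by rw [← hzu, mul_assoc, hu, mul_one]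
  have e1 : u * (g * z) * u = g⁻¹ * z := by
    calc u * (g * z) * u = u * g * (u * u) * z * u := by rw [hu]; group
      _ = (u * g * u) * (u * z * u) := by group
      _ = g⁻¹ * z := by rw [e, huz]
  have e2 := inv_of (g * z) (mul_mem hg h.zN) (e1 ▸ mul_mem (inv_mem hg) h.zN)
  rw [e1, mul_inv_rev, h.z_inv] at e2
  calc g * z = g * (z * g⁻¹) * g := by group
    _ = g * (g⁻¹ * z) * g := by rw [e2]
    _ = z * g := by group

theorem c0_inverted {u : G} (hu : u * u = 1) (huN : u ∉ normalizer (M : Set G)) (hzu : z * u = u * z)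
    {c : G} (hc : c ∈ C0 M z) : u * c * u = c⁻¹ := by
  obtain ⟨x, hx, hxu⟩ := h.exists_invol hI (g := c * u) fun e =>
    huN ((Subgroup.mul_mem_cancel_left _ hc.1).1 e)
  have hxc : u * (x * c) * u = (x * c)⁻¹ := by
    calc u * (x * c) * u = (x * c)⁻¹ * (x * (c * u) * (x * (c * u))) := by group
      _ = (x * c)⁻¹ := by rw [hxu, mul_one]
  have hd : x * c ∈ normalizer (M : Set G) := mul_mem (Subgroup.le_normalizer hx) hc.1
  obtain ⟨h1, -⟩ := h.inter_facts hI hu huN hzu hd (hxc ▸ inv_mem hd)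
  have : x = 1 := h.inf_bot hx (by simpa using mul_mem h1 (inv_mem hc))
  subst this
  simpa using hxc

theorem outer_decomp {g : G} (hg : g ∉ normalizer (M : Set G)) :
    ∃ x ∈ M, ∃ y ∈ M, ∃ u : G, u * u = 1 ∧ u ∉ normalizer (M : Set G) ∧ z * u = u * z ∧
      g = x * (y * u * y⁻¹) := by
  obtain ⟨x, hx, hv⟩ := h.exists_invol hI hg
  obtain ⟨v, hv'⟩ : ∃ v, v = x * g := ⟨_, rfl⟩
  rw [← hv'] at hv
  have hvN : v ∉ normalizer (M : Set G) := fun e =>
    hg ((Subgroup.mul_mem_cancel_left _ (Subgroup.le_normalizer hx)).1 (hv' ▸ e))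
  obtain ⟨a, ha, hav⟩ := h.exists_invol hI (g := z * v) fun e =>
    hvN ((Subgroup.mul_mem_cancel_left _ h.zN).1 e)
  obtain ⟨y, hy, hya⟩ := h.exists_sqrt ha
  refine ⟨x⁻¹, inv_mem hx, y, hy, y⁻¹ * v * y, ?_, fun e => hvN ?_, ?_, ?_⟩
  · calc y⁻¹ * v * y * (y⁻¹ * v * y) = y⁻¹ * (v * v) * y := by group
      _ = 1 := by rw [hv]; group
  · have := mul_mem (mul_mem (Subgroup.le_normalizer hy) e) (inv_mem (Subgroup.le_normalizer hy))
    simpa [mul_assoc] using this
  · have hj : y * z * y⁻¹ = a * z := by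
      rw [← hya, mul_assoc y z, h.z_conj_mul (inv_mem hy), inv_inv, mul_assoc]
    have hjv : y * z * y⁻¹ * v = v * (y * z * y⁻¹) := by
      rw [hj]
      have e : a * z * v * (a * z * v) = 1 := by rw [mul_assoc a z v]; exact hav
      calc a * z * v = (a * z * v)⁻¹ := (inv_eq_self e).symm
        _ = v⁻¹ * (a * z)⁻¹ := by group
        _ = v * (a * z) := by rw [inv_eq_self hv, inv_eq_self (h.mz_invol ha).1]
    calc z * (y⁻¹ * v * y) = y⁻¹ * (y * z * y⁻¹ * v) * y := by group
      _ = y⁻¹ * (v * (y * z * y⁻¹)) * y := by rw [hjv]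
      _ = y⁻¹ * v * y * z := by group
  · calc g = x⁻¹ * v := by rw [hv', inv_mul_cancel_left]
      _ = _ := by group

theorem invol_of_mem_centralizer {w : G} (hw : z * w = w * z)
    (hwN : w ∉ normalizer (M : Set G)) : w * w = 1 := by
  obtain ⟨x, hx, hv⟩ := h.exists_invol hI hwN
  have e : x⁻¹ * w * (x⁻¹ * w) = 1 := by
    have : z * (x * w) * z = x⁻¹ * w := by
      calc z * (x * w) * z = z * x * (w * z) := by group
        _ = z * x * (z * w) := by rw [hw]
        _ = (z * x * z) * w := by group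
        _ = x⁻¹ * w := by rw [h.z_inverts hx]
    rw [← this]
    calc z * (x * w) * z * (z * (x * w) * z) = z * (x * w) * (z * z) * (x * w) * z := by group
      _ = z * (x * w * (x * w)) * z := by rw [h.hz]; group
      _ = 1 := by rw [hv, mul_one, h.hz]
  have hxwN : x * w ∉ normalizer (M : Set G) := fun e' =>
    hwN ((Subgroup.mul_mem_cancel_left _ (Subgroup.le_normalizer hx)).1 e')
  have h2 : x⁻¹ * x⁻¹ = 1 := h.coset_unique hv hxwN (mul_mem (inv_mem hx) (inv_mem hx)) (by
    rw [show x⁻¹ * x⁻¹ * (x * w) = x⁻¹ * w by group]; exact e)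
  have := h.not_invol_mem (inv_mem hx) h2
  rw [this, one_mul] at e
  exact e

end Outer

/-- The basic counts. -/
theorem counts (hI : Many M) (hnn : ¬ M.Normal) :
    ∃ k, 1 ≤ k ∧ Nat.card (centralizer ({z} : Set G)) = Nat.card (C0 M z) * (k + 1) ∧
      Nat.card G = Nat.card M * Nat.card (C0 M z) * (1 + Nat.card M * k) ∧
      Nat.card {g : G // orderOf g = 2} = Nat.card M * (Nat.card (C0 M z) * k + 1) := by
  classical
  set N := normalizer (M : Set G) with hN
  set W := centralizer ({z} : Set G) with hW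
  obtain ⟨-, hn, hI2⟩ := h.many_count hI
  let O := {u : G // u * u = 1 ∧ u ∉ N}
  let O' := {w : W // (w : G) ∉ N}
  have hOO : Nat.card O = Nat.card M * Nat.card O' := by
    rw [← Nat.card_prod, eq_comm]
    refine Nat.card_eq_of_bijective (fun p => (⟨p.1.1 * p.2.1.1 * p.1.1⁻¹, ?_, fun e => p.2.2 ?_⟩ : O))
      ⟨?_, ?_⟩
    · have := h.invol_of_mem_centralizer hI (mem_centralizer_singleton_iff.1 p.2.1.2).symm p.2.2
      calc _ = p.1.1 * (p.2.1.1 * p.2.1.1) * p.1.1⁻¹ := by group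
        _ = 1 := by rw [this]; group
    · have := mul_mem (mul_mem (inv_mem (Subgroup.le_normalizer p.1.2)) e) (Subgroup.le_normalizer p.1.2)
      simpa [mul_assoc] using this
    · rintro ⟨⟨x, hx⟩, ⟨⟨u, huW⟩, huN⟩⟩ ⟨⟨y, hy⟩, ⟨⟨v, hvW⟩, hvN⟩⟩ e
      have e' : x * u * x⁻¹ = y * v * y⁻¹ := congrArg Subtype.val e
      have huz : u * z = z * u := mem_centralizer_singleton_iff.1 huW
      have hvz : v * z = z * v := mem_centralizer_singleton_iff.1 hvW
      have hu2 := h.invol_of_mem_centralizer hI huz.symm huN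
      obtain ⟨s, hs⟩ : ∃ s, s = y⁻¹ * x := ⟨_, rfl⟩
      have hsM : s ∈ M := hs ▸ mul_mem (inv_mem hy) hx
      have es : s * u * s⁻¹ = v := by
        rw [hs]
        calc y⁻¹ * x * u * (y⁻¹ * x)⁻¹ = y⁻¹ * (x * u * x⁻¹) * y := by group
          _ = v := by rw [e']; group
      have es' : s⁻¹ * u * s = v := by
        calc s⁻¹ * u * s = (z * s * z) * u * (z * s * z)⁻¹ := by rw [h.z_inverts hsM, inv_inv]
          _ = z * (s * (z * u * z⁻¹) * s⁻¹) * z⁻¹ := by group
          _ = z * (s * u * s⁻¹) * z⁻¹ := by rw [← huz, mul_inv_cancel_right]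
          _ = v := by rw [es, ← hvz, mul_inv_cancel_right]
      have hss : s * s = 1 := by
        refine by_contra fun hne => huN (h.ti u _ (mul_mem hsM hsM) hne ?_)
        have : u * (s * s) * u⁻¹ = s * s := by
          calc u * (s * s) * u⁻¹ = s * (s⁻¹ * u * s) * s * u⁻¹ := by group
            _ = s * (s * u * s⁻¹) * s * u⁻¹ := by rw [es', ← es]
            _ = s * s := by group
        exact this.symm ▸ mul_mem hsM hsM
      have hs1 := h.not_invol_mem hsM hss
      rw [hs1, one_mul, inv_one, mul_one] at es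
      rw [hs1] at hs
      obtain rfl := inv_mul_eq_one.1 hs.symm
      subst es
      rfl
    · rintro ⟨v, hv2, hvN⟩
      obtain ⟨x, hx, y, hy, u, hu2, huN, hzu, e⟩ := h.outer_decomp hI hvN
      have hw2 : y * u * y⁻¹ * (y * u * y⁻¹) = 1 := by
        calc y * u * y⁻¹ * (y * u * y⁻¹) = y * (u * u) * y⁻¹ := by group
          _ = 1 := by rw [hu2]; group
      have hyN : y * u * y⁻¹ ∉ N := fun e' => huN (by
        have := mul_mem (mul_mem (inv_mem (Subgroup.le_normalizer hy)) e') (Subgroup.le_normalizer hy)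
        simpa [mul_assoc] using this)
      have hx1 := h.coset_unique hw2 hyN hx (e ▸ hv2)
      rw [hx1, one_mul] at e
      exact ⟨(⟨y, hy⟩, ⟨⟨u, mem_centralizer_singleton_iff.2 hzu.symm⟩, huN⟩), Subtype.ext e.symm⟩
  have hWsum : Nat.card W = Nat.card (C0 M z) + Nat.card O' := by
    rw [← Nat.card_sum]
    refine Nat.card_congr ((Equiv.sumCompl fun w : W => (w : G) ∈ N).symm.trans
      (Equiv.sumCongr ?_ (Equiv.refl _)))
    exact ⟨fun w => ⟨w.1.1, w.2, w.1.2⟩, fun c => ⟨⟨c.1, c.2.2⟩, c.2.1⟩, fun _ => rfl, fun _ => rfl⟩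
  obtain ⟨j, hj⟩ := Subgroup.card_dvd_of_le (show C0 M z ≤ W from inf_le_right)
  have hc0 : 0 < Nat.card (C0 M z) := Nat.card_pos
  obtain ⟨k, rfl⟩ : ∃ k, j = k + 1 := by
    refine ⟨j - 1, ?_⟩
    rcases j with _ | j
    · rw [mul_zero] at hj; have := Nat.card_pos (α := W); omega
    · omega
  have hO' : Nat.card O' = Nat.card (C0 M z) * k := by
    rw [hWsum, mul_add, mul_one] at hj; omega
  have hG : Nat.card G = Nat.card M * Nat.card (C0 M z) * (1 + Nat.card M * k) := by
    rw [← M.card_mul_index, ← hn, hOO, hO']; ring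
  refine ⟨k, Nat.one_le_iff_ne_zero.2 fun hk => hnn ?_, hj, hG, ?_⟩
  · subst hk
    rw [mul_zero, add_zero, mul_one, ← h.card_N] at hG
    have htop : N = ⊤ := Subgroup.eq_top_of_card_eq _ hG.symm
    exact normalizer_eq_top_iff.1 htop
  · rw [hI2, hOO, hO']; ring

/-- The conjugates of `z` are at most as many as the involutions, with equality for one class. -/
theorem index_centralizer_le :
    (centralizer ({z} : Set G)).index ≤ Nat.card {g : G // orderOf g = 2} ∧
      ((centralizer ({z} : Set G)).index = Nat.card {g : G // orderOf g = 2} →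
        ∀ j : G, orderOf j = 2 → ∃ x : G, x * z * x⁻¹ = j) := by
  let f : G ⧸ centralizer ({z} : Set G) → {g : G // orderOf g = 2} := fun q =>
    ⟨q.out * z * q.out⁻¹, orderOf_two_iff.2 ⟨by
      calc q.out * z * q.out⁻¹ * (q.out * z * q.out⁻¹) = q.out * (z * z) * q.out⁻¹ := by group
        _ = 1 := by rw [h.hz]; group,
      fun e => h.z1 (conj_eq_one_iff.1 e)⟩⟩
  have hf : Function.Injective f := by
    intro q r e
    have e' : q.out * z * q.out⁻¹ = r.out * z * r.out⁻¹ := congrArg Subtype.val e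
    rw [← q.out_eq', ← r.out_eq', QuotientGroup.eq, mem_centralizer_singleton_iff]
    calc q.out⁻¹ * r.out * z = q.out⁻¹ * (r.out * z * r.out⁻¹) * r.out := by group
      _ = q.out⁻¹ * (q.out * z * q.out⁻¹) * r.out := by rw [e']
      _ = z * (q.out⁻¹ * r.out) := by group
  refine ⟨Nat.card_le_card_of_injective f hf, fun e j hj => ?_⟩
  obtain ⟨q, hq⟩ := ((Nat.bijective_iff_injective_and_card f).2 ⟨hf, e⟩).2 ⟨j, hj⟩
  exact ⟨q.out, congrArg Subtype.val hq⟩

end Hyp

end CfsgLib.Perm.TIInvol
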